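import Cfsg.Agent.Lib.Lie.Suz.Group
import Cfsg.Prelude.Def_Sz

/-!
# The Suzuki group as the twisted subgroup of the symplectic group
-/

set_option autoImplicit false

namespace CfsgLib.Lie.Suz

open Cfsg
open scoped MatrixGroups Pointwise

variable {F : Type*} [Field F] {m : ℕ}

/-- the defining set of the twisted group -/
def TwSet (F : Type*) [Field F] (m : ℕ) : Set (GL (Fin 4) F) :=
  {g | g ∈ Cfsg.Lie.Sp4 F ∧ Cfsg.Lie.star4 (g : Matrix (Fin 4) (Fin 4) F) =
    (g : Matrix (Fin 4) (Fin 4) F).map (fun x => x ^ 2 ^ (m + 1))}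

theorem twisted_eq_closure : Cfsg.Lie.Sz F (2 ^ (m + 1)) = Subgroup.closure (TwSet F m) := rfl

theorem mem_Sp4_iff {g : GL (Fin 4) F} : g ∈ Cfsg.Lie.Sp4 F ↔ ∀ u v : Fin 4 → F,
    Cfsg.Lie.altForm4 ((g : Matrix (Fin 4) (Fin 4) F).mulVec u)
      ((g : Matrix (Fin 4) (Fin 4) F).mulVec v) = Cfsg.Lie.altForm4 u v := Iff.rfl

/-- lifting of a point to an isotropic line with twisted coordinates -/
def IsTwistPt (m : ℕ) (v : Fin 4 → F) : Prop :=
  ∃ u : Fin 4 → F, Cfsg.Lie.altForm4 v u = 0 ∧ ∀ p : Fin 4,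
    v (Cfsg.Lie.pairOf p).1 * u (Cfsg.Lie.pairOf p).2 - v (Cfsg.Lie.pairOf p).2 * u (Cfsg.Lie.pairOf p).1 =
      th m (v p)

section

variable (hS : IsSuzField F m)

include hS

theorem isTwistPt_smul {v : Fin 4 → F} (h : IsTwistPt m v) {a : F} (ha : a ≠ 0) :
    IsTwistPt m (a • v) := by
  obtain ⟨u, h1, h2⟩ := h
  refine ⟨(th m a / a) • u, ?_, fun p => ?_⟩
  · simp only [Cfsg.Lie.altForm4, Pi.smul_apply, smul_eq_mul] at h1 ⊢
    linear_combination (a * (th m a / a)) * h1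
  · simp only [Pi.smul_apply, smul_eq_mul, th_mul hS, ← h2 p]
    field_simp

theorem isTwistPt_iff {v : Fin 4 → F} (hv : v ≠ 0) :
    IsTwistPt m v ↔ Projectivization.mk F v hv ∈ suzukiOvoid F m := by
  have h2' := two_eq_zero hS
  constructor
  · rintro ⟨u, hB, hp⟩
    have p0 := hp 0
    have p1 := hp 1
    have p2 := hp 2
    have p3 := hp 3
    simp [Cfsg.Lie.pairOf, Cfsg.Lie.altForm4] at p0 p1 p2 p3 hB
    by_cases h3 : v 3 = 0
    · simp only [h3, th_zero hS] at p2 p3 hB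
      have hv2 : v 2 = 0 := by
        by_contra h
        have hu : u 3 = 0 := by simpa [h] using p3
        exact h (th_eq_zero hS (by rw [hu] at p2; simpa using p2.symm))
      rw [hv2] at p1 p2 hB
      have hv1 : v 1 = 0 := by
        by_contra h
        rw [th_zero hS] at p2
        have hu : u 3 = 0 := by simpa [h] using p2
        rw [hu] at hB
        have hu2 : u 2 = 0 := by simpa [h] using hB
        rw [hu2] at p1
        exact h (th_eq_zero hS (by simpa using p1.symm))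
      refine (ovoid_iff _).2 (Or.inl (mk_congr _ _ (v 0) ?_))
      ext i
      fin_cases i <;> simp [h3, hv2, hv1]
    · obtain ⟨x, hx⟩ : ∃ x, v 2 = v 3 * x := ⟨v 2 / v 3, by field_simp⟩
      obtain ⟨y, hy⟩ : ∃ y, v 1 = v 3 * y := ⟨v 1 / v 3, by field_simp⟩
      obtain ⟨z, hz⟩ : ∃ z, v 0 = v 3 * z := ⟨v 0 / v 3, by field_simp⟩
      rw [hx, hy, hz] at p1
      rw [hx, hy] at p2
      rw [hx] at p3
      rw [hz, hy, hx] at hB
      simp only [th_mul hS] at p1 p2 p3
      have hz' : z = fO m x y := by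
        apply mul_left_cancel₀ (mul_ne_zero (fun h => h3 (th_eq_zero hS h)) (one_ne_zero (α := F)))
        simp only [fO]
        grind
      refine (ovoid_iff _).2 (Or.inr ⟨x, y, mk_congr _ _ (v 3) ?_⟩)
      ext i
      fin_cases i <;> simp [ptV, hx, hy, hz, hz']
  · intro h
    rcases (ovoid_iff _).1 h with h | ⟨x, y, h⟩
    · obtain ⟨a, ha⟩ := (Projectivization.mk_eq_mk_iff' F _ _ _ _).1 h
      have ha0 : a ≠ 0 := fun e => hv (by rw [← ha, e, zero_smul])
      rw [← ha]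
      refine isTwistPt_smul hS ⟨![0, 1, 0, 0], by simp [Cfsg.Lie.altForm4], fun p => ?_⟩ ha0
      fin_cases p <;> simp [Cfsg.Lie.pairOf, th_zero hS, th_one hS]
    · obtain ⟨a, ha⟩ := (Projectivization.mk_eq_mk_iff' F _ _ _ _).1 h
      have ha0 : a ≠ 0 := fun e => hv (by rw [← ha, e, zero_smul])
      rw [← ha]
      refine isTwistPt_smul hS ⟨![y + x * th m x, th m x, 1, 0], ?_, fun p => ?_⟩ ha0
      · simp [Cfsg.Lie.altForm4, ptV]
        grind
      · fin_cases p <;> simp [Cfsg.Lie.pairOf, ptV, fO, th_one hS, th_add hS, th_mul hS, th_pow hS, th_th hS] <;> grind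

theorem det_eq_one_of_Sp4 {g : GL (Fin 4) F} (hg : g ∈ Cfsg.Lie.Sp4 F) :
    (g : Matrix (Fin 4) (Fin 4) F).det = 1 ∧
      (g : Matrix (Fin 4) (Fin 4) F) * Cfsg.suzukiForm F * (g : Matrix (Fin 4) (Fin 4) F).transpose =
        Cfsg.suzukiForm F := by
  set M := (g : Matrix (Fin 4) (Fin 4) F)
  have h : M.transpose * Cfsg.suzukiForm F * M = Cfsg.suzukiForm F := by
    ext i j
    have := mem_Sp4_iff.1 hg (Pi.single i 1) (Pi.single j 1)
    fin_cases i <;> fin_cases j <;>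
      simp [Cfsg.suzukiForm, Cfsg.Lie.altForm4, Matrix.mulVec, Matrix.mul_apply, Matrix.vecMul,
        dotProduct, Fin.sum_univ_four, M] at this ⊢ <;> linear_combination this
  have hJ : Cfsg.suzukiForm F * Cfsg.suzukiForm F = 1 := by
    ext i j
    fin_cases i <;> fin_cases j <;>
      simp [Cfsg.suzukiForm, Matrix.mul_apply, Matrix.vecMul, dotProduct, Fin.sum_univ_four]
  have h1 : Cfsg.suzukiForm F * M.transpose * Cfsg.suzukiForm F * M = 1 := by
    rw [show Cfsg.suzukiForm F * M.transpose * Cfsg.suzukiForm F * M =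
      Cfsg.suzukiForm F * (M.transpose * Cfsg.suzukiForm F * M) by simp only [Matrix.mul_assoc], h, hJ]
  have h2 := mul_eq_one_comm.1 h1
  refine ⟨?_, ?_⟩
  · have h3 := congrArg Matrix.det h
    rw [Matrix.det_mul, Matrix.det_mul, Matrix.det_transpose] at h3
    have h4 := congrArg Matrix.det hJ
    rw [Matrix.det_mul, Matrix.det_one] at h4
    apply sq_injective hS
    linear_combination (Cfsg.suzukiForm F).det * h3 - (M.det ^ 2 - 1) * h4
  · calc M * Cfsg.suzukiForm F * M.transpose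
        = M * (Cfsg.suzukiForm F * M.transpose * Cfsg.suzukiForm F) * Cfsg.suzukiForm F := by
          simp only [Matrix.mul_assoc, hJ, Matrix.mul_one]
      _ = _ := by rw [h2, Matrix.one_mul]

theorem isTwistPt_mulVec {g : GL (Fin 4) F} (hg : g ∈ TwSet F m) {v : Fin 4 → F} (h : IsTwistPt m v) :
    IsTwistPt m ((g : Matrix (Fin 4) (Fin 4) F).mulVec v) := by
  obtain ⟨u, hB, hp⟩ := h
  set M := (g : Matrix (Fin 4) (Fin 4) F)
  refine ⟨M.mulVec u, by rw [mem_Sp4_iff.1 hg.1]; exact hB, fun p => ?_⟩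
  have hrow := (det_eq_one_of_Sp4 hS hg.1).2
  have e01 := congrFun (congrFun hrow (Cfsg.Lie.pairOf p).1) (Cfsg.Lie.pairOf p).2
  have s0 := congrFun (congrFun hg.2 p) 0
  have s1 := congrFun (congrFun hg.2 p) 1
  have s2 := congrFun (congrFun hg.2 p) 2
  have s3 := congrFun (congrFun hg.2 p) 3
  have q0 := hp 0
  have q1 := hp 1
  have q2 := hp 2
  have q3 := hp 3
  have hsum : th m (M.mulVec v p) = th m (M p 0) * th m (v 0) + th m (M p 1) * th m (v 1) +
      th m (M p 2) * th m (v 2) + th m (M p 3) * th m (v 3) := by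
    simp [Matrix.mulVec, dotProduct, Fin.sum_univ_four, th_add hS, th_mul hS]
  rw [hsum]
  have h2' := two_eq_zero hS
  fin_cases p <;>
    simp [Cfsg.Lie.star4, Cfsg.Lie.pairOf, Cfsg.Lie.altForm4, Cfsg.suzukiForm, Matrix.mul_apply,
      Matrix.vecMul, dotProduct, Matrix.mulVec, Fin.sum_univ_four, M] at e01 s0 s1 s2 s3 q0 q1 q2 q3 hB ⊢ <;>
    simp only [th] at q0 q1 q2 q3 ⊢ <;> grind

theorem T_tw (a b : F) :
    Matrix.SpecialLinearGroup.toGL (T m a b) ∈ TwSet F m := by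
  have h2' := two_eq_zero hS
  refine ⟨mem_Sp4_iff.2 fun u v => ?_, ?_⟩
  · show Cfsg.Lie.altForm4 ((Tm m a b).mulVec u) ((Tm m a b).mulVec v) = _
    simp [Tm, Cfsg.Lie.altForm4, Matrix.mulVec, dotProduct, Fin.sum_univ_four]
    grind
  · show Cfsg.Lie.star4 (Tm m a b) = (Tm m a b).map (th m)
    ext p r
    fin_cases p <;> fin_cases r <;>
      simp [Tm, Cfsg.Lie.star4, Cfsg.Lie.pairOf, fO, th_one hS, th_zero hS, th_add hS, th_mul hS, th_pow hS, th_th hS] <;>
      grind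

theorem H_tw (k : Fˣ) :
    Matrix.SpecialLinearGroup.toGL (H m k) ∈ TwSet F m := by
  have h2' := two_eq_zero hS
  have hk : (k : F) ≠ 0 := k.ne_zero
  have e1 : th m ((k : F) ^ 2 ^ m) = k := by
    apply th_injective hS
    rw [th_th hS, ← pow_mul, th, pow_succ]
  refine ⟨mem_Sp4_iff.2 fun u v => ?_, ?_⟩
  · show Cfsg.Lie.altForm4 ((Matrix.diagonal (hd m k)).mulVec u) ((Matrix.diagonal (hd m k)).mulVec v) = _
    simp [hd, Cfsg.Lie.altForm4, Matrix.mulVec_diagonal, Units.val_inv_eq_inv_val]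
    field_simp
  · show Cfsg.Lie.star4 (Matrix.diagonal (hd m k)) = (Matrix.diagonal (hd m k)).map (th m)
    ext p r
    fin_cases p <;> fin_cases r <;>
      simp [hd, Cfsg.Lie.star4, Cfsg.Lie.pairOf, Matrix.diagonal, Units.val_inv_eq_inv_val, th_one hS,
        th_zero hS, pow_succ, th_inv hS, th_mul hS, e1, th_units] <;>
      field_simp

theorem W_tw : Matrix.SpecialLinearGroup.toGL (W : SL(4, F)) ∈ TwSet F m := by
  have h2' := two_eq_zero hS
  refine ⟨mem_Sp4_iff.2 fun u v => ?_, ?_⟩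
  · show Cfsg.Lie.altForm4 ((Wm : Matrix (Fin 4) (Fin 4) F).mulVec u) ((Wm : Matrix (Fin 4) (Fin 4) F).mulVec v) = _
    simp [Wm, Cfsg.Lie.altForm4, Matrix.mulVec, dotProduct, Fin.sum_univ_four]
    grind
  · show Cfsg.Lie.star4 (Wm : Matrix (Fin 4) (Fin 4) F) = (Wm : Matrix (Fin 4) (Fin 4) F).map (th m)
    ext p r
    fin_cases p <;> fin_cases r <;>
      simp [Wm, Cfsg.Lie.star4, Cfsg.Lie.pairOf, th_one hS, th_zero hS, neg_eq hS]

end

variable [Fintype F] (hm : 1 ≤ m) (hF : Fintype.card F = 2 ^ (2 * m + 1))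

include hm hF

theorem map_Sz_eq : (Cfsg.Sz F m).map Matrix.SpecialLinearGroup.toGL = Cfsg.Lie.Sz F (2 ^ (m + 1)) := by
  have hS := isSuzField hF
  rw [twisted_eq_closure]
  refine le_antisymm ?_ ((Subgroup.closure_le _).2 ?_)
  · rintro _ ⟨g, hg, rfl⟩
    have hB : ∀ g ∈ Cfsg.Sz F m, g • suzukiPointInfinity F = suzukiPointInfinity F →
        Matrix.SpecialLinearGroup.toGL g ∈ Subgroup.closure (TwSet F m) := by
      intro g hg h
      obtain ⟨a, b, k, rfl⟩ := stab_inf_decomp hm hF hg h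
      rw [map_mul]
      exact mul_mem (Subgroup.subset_closure (T_tw hS a b)) (Subgroup.subset_closure (H_tw hS k))
    rcases (ovoid_iff _).1 (smul_mem_ovoid hg ovoid_inf) with h | ⟨a, b, h⟩
    · exact hB g hg h
    · have e : g = T m a b * W * ((T m a b * W)⁻¹ * g) := by group
      rw [e, map_mul, map_mul]
      refine mul_mem (mul_mem (Subgroup.subset_closure (T_tw hS a b)) (Subgroup.subset_closure (W_tw hS)))
        (hB _ (mul_mem (inv_mem (mul_mem (T_mem hS a b) (W_mem hS))) hg) ?_)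
      rw [mul_smul, h, inv_smul_eq_iff, mul_smul, W_inf, T_zero_pt hS]
  · intro g hg
    obtain ⟨g', hg'⟩ : ∃ g' : SL(4, F), (g' : Matrix (Fin 4) (Fin 4) F) = g :=
      ⟨⟨_, (det_eq_one_of_Sp4 hS hg.1).1⟩, rfl⟩
    refine ⟨g', mem_Sz fun p hp => ?_, Units.ext hg'⟩
    induction p using Projectivization.ind with
    | h v hv =>
      rw [Projectivization.smul_mk]
      refine (isTwistPt_iff hS _).1 ?_
      rw [smul_vec, hg']
      exact isTwistPt_mulVec hS hg ((isTwistPt_iff hS hv).2 hp)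

theorem exists_twEquiv : Nonempty (Cfsg.Sz F m ≃* Cfsg.Lie.Sz F (2 ^ (m + 1))) :=
  ⟨((Cfsg.Sz F m).equivMapOfInjective _ Matrix.SpecialLinearGroup.toGL_injective).trans
    (MulEquiv.subgroupCongr (map_Sz_eq hm hF))⟩

end CfsgLib.Lie.Suz
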