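import Cfsg.Agent.Lib.Lie.Suz.Ovoid

/-!
# The structure of the Suzuki group
-/

set_option autoImplicit false

namespace CfsgLib.Lie.Suz

open Cfsg
open scoped MatrixGroups Pointwise

variable {F : Type*} [Field F] {m : ℕ}

/-- torus elements form a homomorphism -/
def Hhom (F : Type*) [Field F] (m : ℕ) : Fˣ →* SL(4, F) where
  toFun := H m
  map_one' := by
    apply Subtype.ext
    ext i j
    fin_cases i <;> fin_cases j <;> simp [H, hd, Matrix.diagonal]
  map_mul' a b := by
    apply Subtype.ext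
    show Matrix.diagonal (hd m (a * b)) = Matrix.diagonal (hd m a) * Matrix.diagonal (hd m b)
    rw [Matrix.diagonal_mul_diagonal]
    congr 1
    funext i
    fin_cases i <;> simp [hd, mul_pow, mul_comm]

theorem H_mul (a b : Fˣ) : H m (a * b) = (H m a * H m b : SL(4, F)) := (Hhom F m).map_mul a b

theorem H_one : (H m 1 : SL(4, F)) = 1 := (Hhom F m).map_one

theorem H_inv (a : Fˣ) : (H m a⁻¹ : SL(4, F)) = (H m a)⁻¹ := (Hhom F m).map_inv a

theorem T_zero : (T m 0 0 : SL(4, F)) = 1 := by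
  apply Subtype.ext
  ext i j
  fin_cases i <;> fin_cases j <;> simp [T, Tm, fO, th]

theorem WHW (k : Fˣ) : (W * H m k * W : SL(4, F)) = H m k⁻¹ := by
  apply Subtype.ext
  ext i j
  rw [Matrix.SpecialLinearGroup.coe_mul, Matrix.SpecialLinearGroup.coe_mul]
  fin_cases i <;> fin_cases j <;>
    simp [W, Wm, H, hd, Matrix.mul_diagonal, Matrix.vecMul, dotProduct, Fin.sum_univ_four, Units.val_inv_eq_inv_val]

theorem TH_diag (a b : F) (k : Fˣ) (i : Fin 4) :
    ((T m a b * H m k : SL(4, F)) : Matrix (Fin 4) (Fin 4) F) i i = hd m k i ∧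
    ((H m k * T m a b : SL(4, F)) : Matrix (Fin 4) (Fin 4) F) i i = hd m k i := by
  constructor <;>
  · rw [Matrix.SpecialLinearGroup.coe_mul]
    fin_cases i <;> simp [T, Tm, H, Matrix.diagonal_mul, Matrix.mul_diagonal]

theorem hd_inj {k k' : Fˣ} (h : hd m k = hd m k') : k = k' := by
  have e0 := congrFun h 0
  have e1 := congrFun h 1
  simp only [hd, Matrix.cons_val_zero, Matrix.cons_val_one, Units.val_inj] at e0 e1
  rw [pow_succ, pow_succ, e1] at e0
  exact mul_left_cancel e0

section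

variable (hS : IsSuzField F m)

include hS

theorem T_mul (a b a' b' : F) :
    T m a b * T m a' b' = T m (a + a') (b + b' + th m a * a') := by
  apply Subtype.ext
  ext i j
  rw [Matrix.SpecialLinearGroup.coe_mul]
  have h2 := two_eq_zero hS
  fin_cases i <;> fin_cases j <;>
    simp [T, Tm, Matrix.vecMul, dotProduct, Matrix.mul_apply, Fin.sum_univ_four, fO, th_add hS, th_mul hS, th_th hS, sq_add hS] <;>
    grind

theorem T_sq (a b : F) : T m a b * T m a b = T m 0 (th m a * a) := by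
  rw [T_mul hS, add_self hS, add_self hS, zero_add]

theorem T_inv (a b : F) : (T m a b)⁻¹ = T m a (b + th m a * a) := by
  rw [inv_eq_iff_mul_eq_one, T_mul hS, add_self hS, ← add_assoc, add_self hS, zero_add, add_self hS, T_zero]

theorem T_zero_comm (a b c : F) : T m 0 c * T m a b = T m a b * T m 0 c := by
  rw [T_mul hS, T_mul hS, th_zero hS, zero_mul, mul_zero, add_zero, add_zero, zero_add, add_zero, add_comm c]

theorem kth_injective : Function.Injective fun k : Fˣ => th m (k : F) * k := by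
  intro a b h
  have h' : th m (a : F) * a = th m (b : F) * b := h
  have h1 := congrArg (th m) h'
  rw [th_mul hS, th_mul hS, th_th hS, th_th hS] at h1
  apply Units.ext
  apply mul_left_cancel₀ (mul_ne_zero (fun h => b.ne_zero (th_eq_zero hS h)) b.ne_zero)
  linear_combination (-(a : F)) * h' + h1

end

variable [Fintype F] (hm : 1 ≤ m) (hF : Fintype.card F = 2 ^ (2 * m + 1))

include hF

omit hF [Fintype F] in
theorem ovoid_inf : suzukiPointInfinity F ∈ suzukiOvoid F m := (ovoid_iff _).2 (Or.inl rfl)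

omit hF [Fintype F] in
theorem ovoid_zero : suzukiPointZero F ∈ suzukiOvoid F m :=
  (ovoid_iff _).2 (Or.inr ⟨0, 0, pt_zero_zero.symm⟩)

omit hF [Fintype F] in
theorem inf_ne_zero : suzukiPointInfinity F ≠ suzukiPointZero F :=
  fun h => pt_ne_inf (m := 0) (0 : F) 0 (pt_zero_zero.trans h.symm)

/-- the translations as a subgroup -/
noncomputable def U : Subgroup (Cfsg.Sz F m) where
  carrier := {g | ∃ a b : F, (g : SL(4, F)) = T m a b}
  one_mem' := ⟨0, 0, T_zero.symm⟩
  mul_mem' := by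
    rintro x y ⟨a, b, hx⟩ ⟨a', b', hy⟩
    exact ⟨_, _, by rw [Subgroup.coe_mul, hx, hy, T_mul (isSuzField hF)]⟩
  inv_mem' := by
    rintro x ⟨a, b, hx⟩
    exact ⟨_, _, by rw [Subgroup.coe_inv, hx, T_inv (isSuzField hF)]⟩

/-- a translation in the Suzuki group -/
noncomputable def TS (a b : F) : Cfsg.Sz F m := ⟨T m a b, T_mem (isSuzField hF) a b⟩

/-- a torus element in the Suzuki group -/
noncomputable def HS (k : Fˣ) : Cfsg.Sz F m := ⟨H m k, H_mem (isSuzField hF) k⟩

/-- the involution in the Suzuki group -/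
noncomputable def WS : Cfsg.Sz F m := ⟨W, W_mem (isSuzField hF)⟩

theorem TS_mem_U (a b : F) : TS hF a b ∈ U hF := ⟨a, b, rfl⟩

theorem TS_injective : Function.Injective fun p : F × F => TS hF p.1 p.2 := by
  rintro ⟨a, b⟩ ⟨a', b'⟩ h
  have h1 := congrArg (fun g : Cfsg.Sz F m => (g : SL(4, F)) • suzukiPointZero F) h
  simp only [TS, T_zero_pt (isSuzField hF)] at h1
  obtain ⟨rfl, rfl⟩ := pt_inj h1
  rfl

theorem card_U : Nat.card (U hF : Subgroup (Cfsg.Sz F m)) = Fintype.card F ^ 2 := by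
  rw [← Nat.card_eq_of_bijective (fun p : F × F => (⟨TS hF p.1 p.2, TS_mem_U hF _ _⟩ : U hF)) ⟨?_, ?_⟩,
    Nat.card_eq_fintype_card, Fintype.card_prod, sq]
  · exact fun p q h => TS_injective hF (congrArg Subtype.val h)
  · rintro ⟨g, a, b, hg⟩
    exact ⟨(a, b), Subtype.ext (Subtype.ext hg.symm)⟩

include hm

theorem mem_stab_inf {g : Cfsg.Sz F m} :
    g ∈ MulAction.stabilizer (Cfsg.Sz F m) (suzukiPointInfinity F) ↔
      ∃ a b k, g = TS hF a b * HS hF k := by
  rw [MulAction.mem_stabilizer_iff, Subgroup.smul_def]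
  constructor
  · intro h
    obtain ⟨a, b, k, e⟩ := stab_inf_decomp hm hF g.2 h
    exact ⟨a, b, k, Subtype.ext e⟩
  · rintro ⟨a, b, k, rfl⟩
    show (T m a b * H m k) • suzukiPointInfinity F = _
    rw [mul_smul, H_inf, T_inf]

theorem mem_stab_pair {g : Cfsg.Sz F m} :
    g ∈ MulAction.stabilizer (Cfsg.Sz F m) (suzukiPointInfinity F) ⊓
        MulAction.stabilizer (Cfsg.Sz F m) (suzukiPointZero F) ↔ ∃ k, g = HS hF k := by
  rw [Subgroup.mem_inf, MulAction.mem_stabilizer_iff, MulAction.mem_stabilizer_iff, Subgroup.smul_def,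
    Subgroup.smul_def]
  constructor
  · rintro ⟨h1, h2⟩
    obtain ⟨k, e⟩ := eq_H_of_fix hm hF g.2 h1 h2
    exact ⟨k, Subtype.ext e⟩
  · rintro ⟨k, rfl⟩
    exact ⟨H_inf k, H_zero_pt (isSuzField hF) k⟩

omit hm in
theorem HS_injective : Function.Injective (HS hF : Fˣ → Cfsg.Sz F m) := by
  intro k k' h
  refine hd_inj (m := m) (funext fun i => ?_)
  have h' := congrArg (fun g : Cfsg.Sz F m => ((g : SL(4, F)) : Matrix (Fin 4) (Fin 4) F) i i) h
  simpa [HS, H] using h'

theorem card_stab_inf : Nat.card (MulAction.stabilizer (Cfsg.Sz F m) (suzukiPointInfinity F)) =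
    Fintype.card F ^ 2 * (Fintype.card F - 1) := by
  classical
  rw [← Nat.card_eq_of_bijective (fun p : (F × F) × Fˣ =>
    (⟨TS hF p.1.1 p.1.2 * HS hF p.2, (mem_stab_inf hm hF).2 ⟨_, _, _, rfl⟩⟩ :
      MulAction.stabilizer (Cfsg.Sz F m) (suzukiPointInfinity F))) ⟨?_, ?_⟩,
    Nat.card_eq_fintype_card, Fintype.card_prod, Fintype.card_prod, Fintype.card_units, sq]
  · rintro ⟨⟨a, b⟩, k⟩ ⟨⟨a', b'⟩, k'⟩ h
    obtain ⟨rfl, rfl, rfl⟩ := TH_inj hF (congrArg (fun g : MulAction.stabilizer (Cfsg.Sz F m)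
      (suzukiPointInfinity F) => ((g : Cfsg.Sz F m) : SL(4, F))) h)
    rfl
  · rintro ⟨g, hg⟩
    obtain ⟨a, b, k, rfl⟩ := (mem_stab_inf hm hF).1 hg
    exact ⟨((a, b), k), rfl⟩

omit hm in
theorem orbit_inf : MulAction.orbit (Cfsg.Sz F m) (suzukiPointInfinity F) = suzukiOvoid F m := by
  ext p
  constructor
  · rintro ⟨g, rfl⟩
    exact smul_mem_ovoid g.2 ovoid_inf
  · intro hp
    by_cases h : p = suzukiPointZero F
    · exact ⟨WS hF, by rw [h]; exact W_inf⟩
    · obtain ⟨g, hg, h1, -⟩ := exists_map_pair hF hp ovoid_zero h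
      exact ⟨⟨g, hg⟩, h1⟩

theorem card_Sz : Nat.card (Cfsg.Sz F m) =
    Fintype.card F ^ 2 * (Fintype.card F ^ 2 + 1) * (Fintype.card F - 1) := by
  classical
  rw [← Subgroup.card_mul_index (MulAction.stabilizer (Cfsg.Sz F m) (suzukiPointInfinity F)),
    card_stab_inf hm hF, MulAction.index_stabilizer, orbit_inf hF, ← Nat.card_coe_set_eq, card_ovoid hF]
  ring

omit hm in
theorem two_trans : MulAction.IsMultiplyPretransitive (Cfsg.Sz F m) (suzukiOvoid F m) 2 := by
  rw [MulAction.is_two_pretransitive_iff]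
  intro p q p' q' hpq hpq'
  obtain ⟨c, hc, h1, h2⟩ := exists_map_pair hF p.2 q.2 (fun h => hpq (Subtype.ext h))
  obtain ⟨d, hd', h3, h4⟩ := exists_map_pair hF p'.2 q'.2 (fun h => hpq' (Subtype.ext h))
  refine ⟨⟨d, hd'⟩ * (⟨c, hc⟩ : Cfsg.Sz F m)⁻¹, Subtype.ext ?_, Subtype.ext ?_⟩
  · show (d * c⁻¹) • (p : Projectivization F (Fin 4 → F)) = _
    rw [← h1, mul_smul, inv_smul_smul, h3]
  · show (d * c⁻¹) • (q : Projectivization F (Fin 4 → F)) = _
    rw [← h2, mul_smul, inv_smul_smul, h4]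

theorem three_fix (g : Cfsg.Sz F m) (a b c : suzukiOvoid F m) (hab : a ≠ b) (hbc : b ≠ c) (hac : a ≠ c)
    (h1 : g • a = a) (h2 : g • b = b) (h3 : g • c = c) : g = 1 :=
  Subtype.ext (eq_one_of_three hm hF g.2 a.2 b.2 c.2 (fun h => hab (Subtype.ext h))
    (fun h => hac (Subtype.ext h)) (fun h => hbc (Subtype.ext h)) (congrArg Subtype.val h1)
    (congrArg Subtype.val h2) (congrArg Subtype.val h3))

theorem faithful : FaithfulSMul (Cfsg.Sz F m) (suzukiOvoid F m) := by
  refine ⟨fun {g g'} h => ?_⟩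
  have hne : suzukiPointZero F ≠ pt m (1 : F) 0 := fun h => one_ne_zero
    (pt_inj (pt_zero_zero.trans h)).1.symm
  rw [← inv_mul_eq_one]
  refine three_fix hm hF _ ⟨_, ovoid_inf⟩ ⟨_, ovoid_zero⟩ ⟨_, (ovoid_iff _).2 (Or.inr ⟨1, 0, rfl⟩)⟩
    (fun h => inf_ne_zero (congrArg Subtype.val h)) (fun h => hne (congrArg Subtype.val h))
    (fun h => pt_ne_inf (1 : F) 0 (congrArg Subtype.val h).symm) ?_ ?_ ?_ <;>
    rw [mul_smul, ← h, inv_smul_smul]

omit hm in
theorem H_conj_T (k : Fˣ) (a b : F) :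
    HS hF k * TS hF a b * (HS hF k)⁻¹ = TS hF ((k : F) * a) (th m (k : F) * k * b) := by
  have hS := isSuzField hF
  rw [mul_inv_eq_iff_eq_mul]
  apply Subtype.ext
  show H m k * T m a b = T m _ _ * H m k
  apply Subtype.ext
  ext i j
  rw [Matrix.SpecialLinearGroup.coe_mul, Matrix.SpecialLinearGroup.coe_mul]
  have hk : (k : F) ≠ 0 := k.ne_zero
  have e : fO m ((k : F) * a) (th m (k : F) * k * b) = th m (k : F) * k ^ 2 * fO m a b := by
    simp only [fO, th_mul hS, th_th hS]; ring
  simp only [T, Tm, e]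
  fin_cases i <;> fin_cases j <;>
    simp [H, hd, Matrix.diagonal_mul, Matrix.mul_diagonal, th_mul hS, th_units, Units.val_inv_eq_inv_val] <;>
    field_simp <;> ring

omit hm in
theorem exists_kth_eq {c : F} (hc : c ≠ 0) : ∃ k : Fˣ, th m (k : F) * k = c := by
  have hS := isSuzField hF
  let f : Fˣ → Fˣ := fun k => Units.mk0 (th m (k : F) * k)
    (mul_ne_zero (fun h => k.ne_zero (th_eq_zero hS h)) k.ne_zero)
  have hf : Function.Injective f := fun a b h => kth_injective hS (congrArg Units.val h)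
  obtain ⟨k, hk⟩ := (Finite.injective_iff_surjective.1 hf) (Units.mk0 c hc)
  exact ⟨k, congrArg Units.val hk⟩

theorem exists_th_ne : ∃ a : F, th m a ≠ a := by
  classical
  by_contra h
  push Not at h
  have h1 : ∀ x : F, x ^ 2 = x := fun x => by rw [← th_th (isSuzField hF), h, h]
  have h2 : Fintype.card F ≤ 2 := by
    have : (Finset.univ : Finset F) ⊆ {0, 1} := fun x _ => by
      rcases eq_or_ne x 0 with e | e
      · simp [e]
      · have := h1 x
        rw [sq] at this
        simp [mul_left_cancel₀ e (this.trans (mul_one x).symm)]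
    exact (Finset.card_le_card this).trans Finset.card_le_two
  have : (8 : ℕ) ≤ Fintype.card F := by
    rw [hF]
    calc 8 = 2 ^ 3 := rfl
      _ ≤ _ := Nat.pow_le_pow_right (by norm_num) (by omega)
  omega

theorem U_le_commutator : U hF ≤ commutator (Cfsg.Sz F m) := by
  rintro g ⟨a, b, hg⟩
  have hS := isSuzField hF
  rw [show g = TS hF a b from Subtype.ext hg]
  obtain ⟨k₀, hk0⟩ := exists_th_ne hm hF
  -- `k ≠ 1` gives every translation up to the centre
  have hk1 : k₀ ≠ 0 ∧ k₀ ≠ 1 :=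
    ⟨fun h => hk0 (by rw [h, th_zero hS]), fun h => hk0 (by rw [h, th_one hS])⟩
  set k := Units.mk0 k₀ hk1.1
  have hc : ∀ x y : F, TS hF ((k₀ + 1) * x) (th m k₀ * k₀ * y + y + th m x * x + th m (k₀ * x) * x) ∈
      commutator (Cfsg.Sz F m) := by
    intro x y
    have h1 : HS hF k * TS hF x y * (HS hF k)⁻¹ * (TS hF x y)⁻¹ ∈ commutator (Cfsg.Sz F m) := by
      rw [← commutatorElement_def]
      exact Subgroup.commutator_mem_commutator (Subgroup.mem_top _) (Subgroup.mem_top _)
    rw [H_conj_T hF] at h1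
    convert h1 using 1
    apply Subtype.ext
    show T m _ _ = T m _ _ * (T m x y)⁻¹
    rw [T_inv hS, T_mul hS, Units.val_mk0]
    congr 1 <;> ring
  have hne : k₀ + 1 ≠ 0 := fun h => hk1.2 (by rw [eq_neg_of_add_eq_zero_left h, neg_eq hS])
  have hne2 : th m k₀ * k₀ + 1 ≠ 0 := fun h => hk1.2 (by
    have := kth_injective hS (a₁ := k) (a₂ := 1) (by
      show th m k₀ * k₀ = th m ((1 : Fˣ) : F) * ((1 : Fˣ) : F)
      rw [Units.val_one, th_one hS, mul_one, eq_neg_of_add_eq_zero_left h, neg_eq hS])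
    exact congrArg Units.val this)
  have h0 : ∀ c : F, TS hF 0 c ∈ commutator (Cfsg.Sz F m) := by
    intro c
    convert hc 0 (c / (th m k₀ * k₀ + 1)) using 2 <;> simp [th_zero hS]
    field_simp
  set x := a / (k₀ + 1) with hx
  have h1 := mul_mem (hc x 0) (h0 (b + (th m x * x + th m (k₀ * x) * x)))
  convert h1 using 1
  apply Subtype.ext
  show T m a b = T m _ _ * T m 0 _
  rw [T_mul hS]
  simp only [mul_zero, add_zero, zero_add]
  rw [show (k₀ + 1) * x = a by rw [hx]; field_simp,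
    show th m x * x + th m (k₀ * x) * x + (b + (th m x * x + th m (k₀ * x) * x)) = b by
      linear_combination (th m x * x + th m (k₀ * x) * x) * two_eq_zero hS]

omit hm in
theorem W_eq_conj_T {a b : F} (h : ¬ (a = 0 ∧ b = 0)) :
    ¬ ((WS hF * TS hF a b * WS hF : Cfsg.Sz F m) •
      suzukiPointInfinity F = suzukiPointInfinity F) := by
  have hS := isSuzField hF
  show ¬ ((W * T m a b * W) • suzukiPointInfinity F = suzukiPointInfinity F)
  rw [mul_smul, mul_smul, W_inf, T_zero_pt hS, W_pt hS h]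
  exact pt_ne_inf _ _

theorem perfect : commutator (Cfsg.Sz F m) = ⊤ := by
  have hS := isSuzField hF
  set M := commutator (Cfsg.Sz F m)
  haveI : M.Normal := inferInstance
  have hU := U_le_commutator hm hF
  have hWinv : (WS hF : Cfsg.Sz F m)⁻¹ = WS hF :=
    inv_eq_iff_mul_eq_one.2 (Subtype.ext W_sq)
  have hH : ∀ k : Fˣ, HS hF k ∈ M := by
    intro k
    obtain ⟨l, rfl⟩ : ∃ l : Fˣ, k = l * l := by
      have hinj : Function.Injective fun l : Fˣ => l * l := fun a b h => Units.ext (sq_injective hS (by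
        have := congrArg Units.val h
        rw [Units.val_mul, Units.val_mul] at this
        rw [sq, sq]; exact this))
      obtain ⟨l, hl⟩ := (Finite.injective_iff_surjective.1 hinj) k
      exact ⟨l, hl.symm⟩
    have h1 : HS hF l * WS hF * (HS hF l)⁻¹ * (WS hF)⁻¹ ∈ M := by
      rw [← commutatorElement_def]
      exact Subgroup.commutator_mem_commutator (Subgroup.mem_top _) (Subgroup.mem_top _)
    convert h1 using 1
    rw [hWinv, mul_assoc, mul_assoc, ← mul_assoc (WS hF)]
    apply Subtype.ext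
    show H m (l * l) = H m l * (W * (H m l)⁻¹ * W)
    rw [← H_inv, WHW, inv_inv, H_mul]
  have hB : ∀ g, g ∈ MulAction.stabilizer (Cfsg.Sz F m) (suzukiPointInfinity F) → g ∈ M := by
    intro g hg
    obtain ⟨a, b, k, rfl⟩ := (mem_stab_inf hm hF).1 hg
    exact mul_mem (hU (TS_mem_U hF a b)) (hH k)
  have hcell : ∀ g : Cfsg.Sz F m, g • suzukiPointInfinity F ≠ suzukiPointInfinity F →
      ∃ u ∈ M, ∃ v ∈ M, g = u * WS hF * v := by
    intro g hg
    rcases (ovoid_iff _).1 (orbit_inf hF ▸ MulAction.mem_orbit _ g) with h | ⟨a, b, h⟩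
    · exact absurd h hg
    · refine ⟨TS hF a b, hU (TS_mem_U hF a b), (TS hF a b * WS hF)⁻¹ * g, hB _ ?_, by group⟩
      rw [MulAction.mem_stabilizer_iff, mul_smul, inv_smul_eq_iff, h, mul_smul]
      show pt m a b = T m a b • ((W : SL(4, F)) • suzukiPointInfinity F)
      rw [W_inf, T_zero_pt hS]
  have hW : WS hF ∈ M := by
    have hn : WS hF * TS hF 1 0 * WS hF ∈ M := by
      nth_rewrite 2 [← hWinv]
      exact Subgroup.Normal.conj_mem inferInstance _ (hU (TS_mem_U hF 1 0)) _
    obtain ⟨u, hu, v, hv, e⟩ := hcell _ (W_eq_conj_T hF (a := 1) (b := 0) (by simp))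
    rw [e] at hn
    exact (Subgroup.mul_mem_cancel_left _ hu).1 ((Subgroup.mul_mem_cancel_right _ hv).1 hn)
  rw [eq_top_iff]
  intro g _
  by_cases hg : g • suzukiPointInfinity F = suzukiPointInfinity F
  · exact hB g hg
  · obtain ⟨u, hu, v, hv, rfl⟩ := hcell g hg
    exact mul_mem (mul_mem hu hW) hv

/-- a nontrivial normal subgroup is transitive -/
theorem normal_transitive {N : Subgroup (Cfsg.Sz F m)} [N.Normal] (hN : N ≠ ⊥) (p q : suzukiOvoid F m) :
    ∃ n ∈ N, n • p = q := by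
  haveI := faithful hm hF
  by_cases hpq : p = q
  · exact ⟨1, one_mem _, by rw [one_smul, hpq]⟩
  obtain ⟨n, hn, r, hr⟩ : ∃ n ∈ N, ∃ r : suzukiOvoid F m, n • r ≠ r := by
    by_contra h
    push Not at h
    exact hN ((Subgroup.eq_bot_iff_forall N).2 fun n hn =>
      eq_of_smul_eq_smul fun r : suzukiOvoid F m => by rw [h n hn r, one_smul])
  haveI := two_trans hF (m := m)
  obtain ⟨c, hc1, hc2⟩ := MulAction.is_two_pretransitive_iff.1 (two_trans hF (m := m)) (Ne.symm hr) hpq
  exact ⟨c * n * c⁻¹, Subgroup.Normal.conj_mem inferInstance n hn c,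
    by rw [mul_smul, mul_smul, ← hc1, inv_smul_smul, hc2]⟩

theorem simple : IsSimpleGroup (Cfsg.Sz F m) := by
  classical
  have hS := isSuzField hF
  haveI : Nontrivial (Cfsg.Sz F m) := ⟨⟨TS hF 1 0, 1, fun h => one_ne_zero
    (congrArg Prod.fst (TS_injective hF (a₁ := (1, 0)) (a₂ := (0, 0)) (h.trans (Subtype.ext T_zero.symm))))⟩⟩
  refine { eq_bot_or_eq_top_of_normal := fun N hN => ?_ }
  by_contra hcon
  push Not at hcon
  haveI := hN
  set π := QuotientGroup.mk' N
  set B := MulAction.stabilizer (Cfsg.Sz F m) (suzukiPointInfinity F)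
  -- the quotient is an image of the point stabiliser
  have hsurj : Function.Surjective (π.comp B.subtype) := by
    intro x
    obtain ⟨g, rfl⟩ := QuotientGroup.mk'_surjective N x
    obtain ⟨n, hn, hn'⟩ := normal_transitive hm hF hcon.1 ⟨_, ovoid_inf⟩ (g • ⟨_, ovoid_inf⟩)
    refine ⟨⟨n⁻¹ * g, ?_⟩, ?_⟩
    · rw [MulAction.mem_stabilizer_iff, mul_smul, inv_smul_eq_iff]
      exact (congrArg Subtype.val hn').symm
    · show QuotientGroup.mk' N (n⁻¹ * g) = QuotientGroup.mk' N g
      rw [map_mul, map_inv, show QuotientGroup.mk' N n = 1 from (QuotientGroup.eq_one_iff n).2 hn,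
        inv_one, one_mul]
  have hdiag : ∀ g : B, ∃ a b k, (g : Cfsg.Sz F m) = TS hF a b * HS hF k :=
    fun g => (mem_stab_inf hm hF).1 g.2
  have hBsol : Group.IsSolvable B := by
    let e : B →* Fˣ :=
      { toFun := fun g => Units.mk0
          ((((g : Cfsg.Sz F m) : SL(4, F)) : Matrix (Fin 4) (Fin 4) F) 1 1)
          (by
            obtain ⟨a, b, k, e⟩ := hdiag g
            rw [e]
            show ((T m a b * H m k : SL(4, F)) : Matrix (Fin 4) (Fin 4) F) 1 1 ≠ 0
            rw [(TH_diag a b k 1).1]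
            simp [hd])
        map_one' := Units.ext (by simp)
        map_mul' := fun g g' => by
          obtain ⟨a, b, k, e⟩ := hdiag g
          obtain ⟨a', b', k', e'⟩ := hdiag g'
          apply Units.ext
          show (((g : Cfsg.Sz F m) * (g' : Cfsg.Sz F m) : Cfsg.Sz F m) : SL(4, F)).1 1 1 =
            ((g : Cfsg.Sz F m) : SL(4, F)).1 1 1 * ((g' : Cfsg.Sz F m) : SL(4, F)).1 1 1
          rw [e, e']
          show ((T m a b * H m k) * (T m a' b' * H m k') : SL(4, F)).1 1 1 =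
            (T m a b * H m k : SL(4, F)).1 1 1 * (T m a' b' * H m k' : SL(4, F)).1 1 1
          simp only [Matrix.SpecialLinearGroup.coe_mul]
          simp [T, Tm, H, Matrix.mul_apply, Matrix.vecMul_diagonal, Fin.sum_univ_four] }
    have h1 : ∀ g : B, e g = 1 → ∃ a b, (g : Cfsg.Sz F m) = TS hF a b := by
      intro g hg
      obtain ⟨a, b, k, e1⟩ := hdiag g
      refine ⟨a, b, ?_⟩
      have h2 : hd m k 1 = 1 := by
        have := congrArg Units.val hg
        rw [Units.val_one] at this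
        rw [← this]
        show hd m k 1 = ((g : Cfsg.Sz F m) : SL(4, F)).1 1 1
        rw [e1]
        exact (TH_diag a b k 1).1.symm
      have hk : k = 1 := by
        apply Units.ext
        rw [Units.val_one]
        apply th_injective hS
        rw [th_one hS, th_units, show ((k ^ 2 ^ m : Fˣ) : F) = 1 from h2, one_pow]
      rw [e1, hk, show (HS hF 1 : Cfsg.Sz F m) = 1 from Subtype.ext H_one, mul_one]
    have hker : Group.IsSolvable e.ker := by
      have hT : ∀ g : e.ker, ∃ a b, (((g : B) : Cfsg.Sz F m) : SL(4, F)) = T m a b := fun g => by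
        obtain ⟨a, b, h⟩ := h1 g.1 g.2
        exact ⟨a, b, congrArg Subtype.val h⟩
      let e2 : e.ker →* Multiplicative F :=
        { toFun := fun g => Multiplicative.ofAdd
            (((((g : B) : Cfsg.Sz F m) : SL(4, F)) : Matrix (Fin 4) (Fin 4) F) 0 1)
          map_one' := by simp
          map_mul' := fun g g' => by
            obtain ⟨a, b, e1⟩ := hT g
            obtain ⟨a', b', e1'⟩ := hT g'
            rw [← ofAdd_add]
            congr 1
            simp only [Subgroup.coe_mul, e1, e1', T_mul hS]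
            simp [T, Tm] }
      haveI : Group.IsSolvable e2.ker := by
        refine Group.isSolvable_of_comm fun x y => ?_
        apply Subtype.ext; apply Subtype.ext; apply Subtype.ext; apply Subtype.ext
        obtain ⟨a, b, ex⟩ := hT x.1
        obtain ⟨a', b', ey⟩ := hT y.1
        have ha : a = 0 := by
          have := Multiplicative.ofAdd.injective (x.2 : e2 x.1 = 1)
          simpa [ex, T, Tm] using this
        simp only [Subgroup.coe_mul, ex, ey, ha, T_zero_comm hS]
      exact Group.isSolvable_of_ker_le_range e2.ker.subtype e2 (Subgroup.range_subtype _).ge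
    haveI := hker
    exact Group.isSolvable_of_ker_le_range e.ker.subtype e (Subgroup.range_subtype _).ge
  haveI := hBsol
  haveI : Group.IsSolvable (Cfsg.Sz F m ⧸ N) := Group.isSolvable_of_surjective hsurj
  have hp : commutator (Cfsg.Sz F m ⧸ N) = ⊤ := by
    rw [commutator_def, ← Subgroup.map_top_of_surjective π (QuotientGroup.mk'_surjective N),
      ← Subgroup.map_commutator, ← commutator_def, perfect hm hF]
  haveI : Nontrivial (Cfsg.Sz F m ⧸ N) := QuotientGroup.nontrivial_iff.2 hcon.2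
  exact (Group.IsSolvable.commutator_lt_top_of_nontrivial (Cfsg.Sz F m ⧸ N)).ne hp

theorem zassenhaus : Cfsg.IsZassenhausGroup (Cfsg.Sz F m) (suzukiOvoid F m) := by
  classical
  refine ⟨faithful hm hF, two_trans hF, three_fix hm hF, ?_, fun N hN ht => ?_⟩
  · obtain ⟨k₀, hk0⟩ := exists_th_ne hm hF
    have h0 : k₀ ≠ 0 := fun h => hk0 (by rw [h, th_zero (isSuzField hF)])
    refine ⟨HS hF (Units.mk0 k₀ h0), fun h => hk0 ?_, ⟨_, ovoid_inf⟩, ⟨_, ovoid_zero⟩,
      fun h => inf_ne_zero (congrArg Subtype.val h), Subtype.ext (H_inf _),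
      Subtype.ext (H_zero_pt (isSuzField hF) _)⟩
    have h' := HS_injective hF (h.trans (show (1 : Cfsg.Sz F m) = HS hF 1 from Subtype.ext H_one.symm))
    rw [show k₀ = 1 from congrArg Units.val h', th_one (isSuzField hF)]
  · haveI := hN
    haveI := simple hm hF
    rcases IsSimpleGroup.eq_bot_or_eq_top_of_normal N hN with h | h
    · exfalso
      subst h
      obtain ⟨g, hg⟩ := ht.exists_smul_eq ⟨_, ovoid_inf⟩ ⟨_, ovoid_zero⟩
      rw [Subgroup.smul_def, Subgroup.mem_bot.1 g.2, one_smul] at hg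
      exact inf_ne_zero (congrArg Subtype.val hg)
    · refine ⟨⟨_, ovoid_inf⟩, fun hb => ?_⟩
      have hT : (⟨TS hF 1 0, h ▸ Subgroup.mem_top _⟩ : N) ∈
          MulAction.stabilizer N (⟨suzukiPointInfinity F, ovoid_inf⟩ : suzukiOvoid F m) :=
        Subtype.ext (T_inf 1 0)
      rw [hb, Subgroup.mem_bot] at hT
      have h' : TS hF 1 0 = TS hF 0 0 := (congrArg Subtype.val hT).trans (Subtype.ext T_zero.symm)
      exact one_ne_zero (congrArg Prod.fst (TS_injective hF (a₁ := (1, 0)) (a₂ := (0, 0)) h'))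

theorem independent (p : Fin 3 ↪ suzukiOvoid F m) :
    Projectivization.Independent (fun i => (p i : Projectivization F (Fin 4 → F))) := by
  have hS := isSuzField hF
  rw [Projectivization.independent_iff, Fintype.linearIndependent_iff]
  intro c hc
  have hne : ∀ i j, i ≠ j → (p i : Projectivization F (Fin 4 → F)) ≠ p j :=
    fun i j hij h => hij (p.injective (Subtype.ext h))
  obtain ⟨g, hg, h1, h2⟩ := exists_map_pair hF (p 0).2 (p 1).2 (hne 0 1 (by decide))
  have hc' := congrArg (g⁻¹ • ·) hc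
  simp only [smul_zero, Finset.smul_sum, Function.comp_apply, smul_comm g⁻¹ (_ : F)] at hc'
  have hrep : ∀ (i : Fin 3) (v : Fin 4 → F) (hv : v ≠ 0),
      (p i : Projectivization F (Fin 4 → F)) = g • Projectivization.mk F v hv →
      ∃ a : F, a ≠ 0 ∧ g⁻¹ • (p i : Projectivization F (Fin 4 → F)).rep = a • v := by
    intro i v hv h
    have h3 : g⁻¹ • Projectivization.mk F (p i : Projectivization F (Fin 4 → F)).rep
        (Projectivization.rep_nonzero _) = Projectivization.mk F v hv := by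
      rw [Projectivization.mk_rep, h, inv_smul_smul]
    rw [Projectivization.smul_mk] at h3
    obtain ⟨a, ha⟩ := (Projectivization.mk_eq_mk_iff' F _ _ _ _).1 h3
    refine ⟨a, fun h0 => Projectivization.rep_nonzero (p i : Projectivization F (Fin 4 → F))
      ((smul_eq_zero_iff_eq g⁻¹).1 ?_), ha.symm⟩
    rw [← ha, h0, zero_smul]
  obtain ⟨a0, ha0, e0⟩ := hrep 0 _ _ h1.symm
  obtain ⟨a1, ha1, e1⟩ := hrep 1 _ _ h2.symm
  rcases (ovoid_iff _).1 (smul_mem_ovoid (inv_mem hg) (p 2).2) with h3 | ⟨x, y, h3⟩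
  · exact absurd (by rw [← h1, ← h3, smul_inv_smul]) (hne 0 2 (by decide))
  have hxy : ¬ (x = 0 ∧ y = 0) := by
    rintro ⟨rfl, rfl⟩
    rw [pt_zero_zero] at h3
    exact absurd (by rw [← h2, ← h3, smul_inv_smul]) (hne 1 2 (by decide))
  obtain ⟨a2, ha2, e2⟩ := hrep 2 (ptV m x y) (ptV_ne x y) (inv_smul_eq_iff.1 h3)
  rw [Fin.sum_univ_three, e0, e1, e2] at hc'
  have k1 := congrFun hc' 1
  have k2 := congrFun hc' 2
  have k0 := congrFun hc' 0
  have k3 := congrFun hc' 3
  simp [ptV, ha0, ha1, ha2] at k0 k1 k2 k3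
  have hc2 : c 2 = 0 := by
    by_contra hh
    exact hxy ⟨k2.resolve_left hh, k1.resolve_left hh⟩
  simp [hc2, ha0, ha1] at k0 k3
  intro i
  fin_cases i <;> assumption

omit hm in
theorem form_T (a b : F) :
    (Tm m a b).transpose * Cfsg.suzukiForm F * Tm m a b = Cfsg.suzukiForm F := by
  have h2 := two_eq_zero (isSuzField hF)
  ext i j
  fin_cases i <;> fin_cases j <;>
    simp [Cfsg.suzukiForm, Tm, Matrix.mul_apply, Matrix.vecMul, dotProduct, Fin.sum_univ_four] <;> grind

omit hm [Fintype F] hF in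
theorem form_H (k : Fˣ) :
    (H m k : SL(4, F)).1.transpose * Cfsg.suzukiForm F * (H m k : SL(4, F)).1 = Cfsg.suzukiForm F := by
  ext i j
  fin_cases i <;> fin_cases j <;>
    simp [Cfsg.suzukiForm, H, hd, Matrix.mul_diagonal, Matrix.diagonal_mul, Units.val_inv_eq_inv_val]

omit hm [Fintype F] hF in
theorem form_W : (W : SL(4, F)).1.transpose * Cfsg.suzukiForm F * (W : SL(4, F)).1 = Cfsg.suzukiForm F := by
  ext i j
  fin_cases i <;> fin_cases j <;>
    simp [Cfsg.suzukiForm, W, Wm, Matrix.mul_apply, Matrix.vecMul, dotProduct, Fin.sum_univ_four]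

theorem form_preserved {g : SL(4, F)} (hg : g ∈ Cfsg.Sz F m) :
    g.1.transpose * Cfsg.suzukiForm F * g.1 = Cfsg.suzukiForm F := by
  have hmul : ∀ A B : Matrix (Fin 4) (Fin 4) F, A.transpose * Cfsg.suzukiForm F * A = Cfsg.suzukiForm F →
      B.transpose * Cfsg.suzukiForm F * B = Cfsg.suzukiForm F →
      (A * B).transpose * Cfsg.suzukiForm F * (A * B) = Cfsg.suzukiForm F := by
    intro A B hA hB
    rw [Matrix.transpose_mul, show B.transpose * A.transpose * Cfsg.suzukiForm F * (A * B) =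
      B.transpose * (A.transpose * Cfsg.suzukiForm F * A) * B by simp only [Matrix.mul_assoc], hA, hB]
  have hS := isSuzField hF
  have hB : ∀ g ∈ Cfsg.Sz F m, g • suzukiPointInfinity F = suzukiPointInfinity F →
      g.1.transpose * Cfsg.suzukiForm F * g.1 = Cfsg.suzukiForm F := by
    intro g hg h
    obtain ⟨a, b, k, rfl⟩ := stab_inf_decomp hm hF hg h
    rw [Matrix.SpecialLinearGroup.coe_mul]
    exact hmul _ _ (form_T hF a b) (form_H k)
  rcases (ovoid_iff _).1 (smul_mem_ovoid hg ovoid_inf) with h | ⟨a, b, h⟩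
  · exact hB g hg h
  · have e : g = T m a b * W * ((T m a b * W)⁻¹ * g) := by group
    rw [e, Matrix.SpecialLinearGroup.coe_mul, Matrix.SpecialLinearGroup.coe_mul]
    refine hmul _ _ (hmul _ _ (form_T hF a b) form_W)
      (hB _ (mul_mem (inv_mem (mul_mem (T_mem hS a b) (W_mem hS))) hg) ?_)
    rw [mul_smul, h, inv_smul_eq_iff, mul_smul, W_inf, T_zero_pt hS]

omit hm in
theorem U_isPGroup : IsPGroup 2 (U hF : Subgroup (Cfsg.Sz F m)) :=
  IsPGroup.of_card (n := (2 * m + 1) * 2) (by rw [card_U hF, hF, ← pow_mul])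

theorem U_index_not_dvd : ¬ 2 ∣ (U hF : Subgroup (Cfsg.Sz F m)).index := by
  intro hd'
  have h1 := Subgroup.card_mul_index (U hF : Subgroup (Cfsg.Sz F m))
  rw [card_U hF, card_Sz hm hF, mul_assoc] at h1
  have h2 := Nat.eq_of_mul_eq_mul_left (pow_pos Fintype.card_pos 2) h1
  rw [h2, Nat.prime_two.dvd_mul, hF] at hd'
  have h3 : 2 ∣ 2 ^ (2 * m + 1) := dvd_pow_self 2 (by omega)
  have h4 : 1 ≤ 2 ^ (2 * m + 1) := Nat.one_le_two_pow
  have h5 : 2 ∣ (2 ^ (2 * m + 1)) ^ 2 := dvd_pow h3 two_ne_zero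
  omega

end CfsgLib.Lie.Suz
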