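import Cfsg.Agent.Lib.Lie.Suz.Twisted
import Cfsg.Agent.Lib.AutPSL.Field
import Cfsg.Prelude.Def_KGroupFacts

/-!
# The automorphisms of a Suzuki group
-/

set_option autoImplicit false

namespace CfsgLib.Lie.Suz

open Cfsg
open scoped MatrixGroups Pointwise

variable {F : Type*} [Field F] [Fintype F] {m : ℕ} (hm : 1 ≤ m) (hF : Fintype.card F = 2 ^ (2 * m + 1))

omit [Fintype F] in
theorem th_ringAut (σ : RingAut F) (x : F) : th m (σ x) = σ (th m x) := (map_pow σ x _).symm

/-- the entrywise action of a field automorphism -/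
noncomputable def sigSL (σ : RingAut F) : SL(4, F) →* SL(4, F) :=
  Matrix.SpecialLinearGroup.map σ.toRingHom

omit [Fintype F] in
theorem sigSL_T (σ : RingAut F) (a b : F) : sigSL σ (T m a b) = T m (σ a) (σ b) := by
  apply Subtype.ext
  ext i j
  simp only [sigSL, Matrix.SpecialLinearGroup.map_apply_coe, RingHom.mapMatrix_apply, Matrix.map_apply]
  fin_cases i <;> fin_cases j <;> simp [T, Tm, fO, th_ringAut]

omit [Fintype F] in
theorem sigSL_H (σ : RingAut F) (k : Fˣ) : sigSL σ (H m k) = H m (Units.map σ.toRingHom.toMonoidHom k) := by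
  apply Subtype.ext
  ext i j
  simp only [sigSL, Matrix.SpecialLinearGroup.map_apply_coe, RingHom.mapMatrix_apply, Matrix.map_apply]
  fin_cases i <;> fin_cases j <;> simp [H, hd, Matrix.diagonal, Units.val_inv_eq_inv_val]

omit [Fintype F] in
theorem sigSL_W (σ : RingAut F) : sigSL σ (W : SL(4, F)) = W := by
  apply Subtype.ext
  ext i j
  simp only [sigSL, Matrix.SpecialLinearGroup.map_apply_coe, RingHom.mapMatrix_apply, Matrix.map_apply]
  fin_cases i <;> fin_cases j <;> simp [W, Wm]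

include hm hF

/-- every element in terms of the generators -/
theorem decomp (g : Cfsg.Sz F m) :
    (∃ a b k, g = TS hF a b * HS hF k) ∨ ∃ x y a b k, g = TS hF x y * WS hF * (TS hF a b * HS hF k) := by
  rcases (ovoid_iff ((g : SL(4, F)) • suzukiPointInfinity F)).1 (smul_mem_ovoid g.2 ovoid_inf) with h | ⟨x, y, h⟩
  · exact Or.inl ((mem_stab_inf hm hF).1 h)
  · refine Or.inr ⟨x, y, ?_⟩
    have hst : (TS hF x y * WS hF)⁻¹ * g ∈ MulAction.stabilizer (Cfsg.Sz F m) (suzukiPointInfinity F) := by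
      rw [MulAction.mem_stabilizer_iff, mul_smul, inv_smul_eq_iff]
      show (g : SL(4, F)) • suzukiPointInfinity F = (T m x y * W) • suzukiPointInfinity F
      rw [h, mul_smul, W_inf, T_zero_pt (isSuzField hF)]
    obtain ⟨a, b, k, e⟩ := (mem_stab_inf hm hF).1 hst
    exact ⟨a, b, k, by rw [← e, mul_inv_cancel_left]⟩

theorem sigSL_mem (σ : RingAut F) (g : Cfsg.Sz F m) : sigSL σ (g : SL(4, F)) ∈ Cfsg.Sz F m := by
  have hS := isSuzField hF
  rcases decomp hm hF g with ⟨a, b, k, rfl⟩ | ⟨x, y, a, b, k, rfl⟩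
  · show sigSL σ (T m a b * H m k) ∈ _
    rw [map_mul, sigSL_T, sigSL_H]
    exact mul_mem (T_mem hS _ _) (H_mem hS _)
  · show sigSL σ (T m x y * W * (T m a b * H m k)) ∈ _
    rw [map_mul, map_mul, map_mul, sigSL_T, sigSL_T, sigSL_H, sigSL_W]
    exact mul_mem (mul_mem (T_mem hS _ _) (W_mem hS)) (mul_mem (T_mem hS _ _) (H_mem hS _))

/-- the field automorphism of the group -/
noncomputable def sigAut (σ : RingAut F) : MulAut (Cfsg.Sz F m) where
  toFun g := ⟨sigSL σ g, sigSL_mem hm hF σ g⟩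
  invFun g := ⟨sigSL σ⁻¹ g, sigSL_mem hm hF σ⁻¹ g⟩
  left_inv g := by
    refine Subtype.ext (Subtype.ext (Matrix.ext fun i j => ?_))
    exact σ.symm_apply_apply _
  right_inv g := by
    refine Subtype.ext (Subtype.ext (Matrix.ext fun i j => ?_))
    exact σ.apply_symm_apply _
  map_mul' a b := Subtype.ext (map_mul (sigSL σ) (a : SL(4, F)) (b : SL(4, F)))

theorem sigAut_TS (σ : RingAut F) (a b : F) : sigAut hm hF σ (TS hF a b) = TS hF (σ a) (σ b) :=
  Subtype.ext (sigSL_T σ a b)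

theorem sigAut_HS (σ : RingAut F) (k : Fˣ) :
    sigAut hm hF σ (HS hF k) = HS hF (Units.map σ.toRingHom.toMonoidHom k) :=
  Subtype.ext (sigSL_H σ k)

/-- the normaliser of the translations fixes their common fixed point -/
theorem mem_stab_of_normalizes {g : Cfsg.Sz F m} (h : ∀ u ∈ U hF, g⁻¹ * u * g ∈ U hF) :
    g ∈ MulAction.stabilizer (Cfsg.Sz F m) (suzukiPointInfinity F) := by
  have hS := isSuzField hF
  rw [MulAction.mem_stabilizer_iff]
  rcases (ovoid_iff ((g : SL(4, F)) • suzukiPointInfinity F)).1 (smul_mem_ovoid g.2 ovoid_inf) with h1 | ⟨x, y, h1⟩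
  · exact h1
  · exfalso
    obtain ⟨a, b, hu⟩ := h _ (TS_mem_U hF 0 1)
    have h2 : ((g : SL(4, F))⁻¹ * T m 0 1 * (g : SL(4, F))) • suzukiPointInfinity F = suzukiPointInfinity F := by
      rw [show ((g : SL(4, F))⁻¹ * T m 0 1 * (g : SL(4, F))) = T m a b from hu, T_inf]
    rw [mul_smul, mul_smul, inv_smul_eq_iff, h1, T_pt hS, th_zero hS, zero_mul, add_zero, add_zero] at h2
    have h3 := (pt_inj h2).2
    exact one_ne_zero (add_left_cancel (h3.trans (add_zero y).symm))

theorem normalizes_of_mem_stab {g : Cfsg.Sz F m}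
    (hg : g ∈ MulAction.stabilizer (Cfsg.Sz F m) (suzukiPointInfinity F)) {u : Cfsg.Sz F m}
    (hu : u ∈ U hF) : g⁻¹ * u * g ∈ U hF := by
  obtain ⟨a, b, k, rfl⟩ := (mem_stab_inf hm hF).1 hg
  have h1 : (TS hF a b)⁻¹ * u * TS hF a b ∈ U hF :=
    mul_mem (mul_mem (inv_mem (TS_mem_U hF a b)) hu) (TS_mem_U hF a b)
  obtain ⟨c, d, e⟩ := h1
  have e' : (TS hF a b)⁻¹ * u * TS hF a b = TS hF c d := Subtype.ext e
  have hinv : (HS hF k)⁻¹ = HS hF k⁻¹ := Subtype.ext (H_inv k).symm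
  rw [mul_inv_rev, show (HS hF k)⁻¹ * (TS hF a b)⁻¹ * u * (TS hF a b * HS hF k) =
    (HS hF k)⁻¹ * ((TS hF a b)⁻¹ * u * TS hF a b) * HS hF k by group, e']
  have := H_conj_T hF k⁻¹ c d
  rw [← hinv, inv_inv] at this
  rw [this]
  exact TS_mem_U hF _ _

/-- an automorphism fixing the translations as a set fixes the point stabiliser -/
theorem map_stab {θ : MulAut (Cfsg.Sz F m)} (hU : ∀ u, θ u ∈ U hF ↔ u ∈ U hF) {g : Cfsg.Sz F m}
    (hg : g ∈ MulAction.stabilizer (Cfsg.Sz F m) (suzukiPointInfinity F)) :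
    θ g ∈ MulAction.stabilizer (Cfsg.Sz F m) (suzukiPointInfinity F) := by
  refine mem_stab_of_normalizes hm hF fun u hu => ?_
  obtain ⟨v, rfl⟩ := θ.surjective u
  rw [← map_inv, ← map_mul, ← map_mul]
  exact (hU _).2 (normalizes_of_mem_stab hm hF hg ((hU v).1 hu))

/-- every automorphism is inner times field -/
theorem aut_decomp (θ : MulAut (Cfsg.Sz F m)) :
    ∃ (x : Cfsg.Sz F m) (σ : RingAut F), θ = MulAut.conj x * sigAut hm hF σ := by
  classical
  have hS := isSuzField hF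
  haveI : Fact (Nat.Prime 2) := ⟨Nat.prime_two⟩
  haveI : MulAction.IsPretransitive (Cfsg.Sz F m) (suzukiOvoid F m) := by
    haveI := two_trans hF (m := m)
    exact MulAction.isPretransitive_of_is_two_pretransitive
  -- the translations
  obtain ⟨g, hg⟩ : ∃ g : Cfsg.Sz F m, ∀ u, (MulAut.conj g * θ) u ∈ U hF ↔ u ∈ U hF := by
    set P : Sylow 2 (Cfsg.Sz F m) := (U_isPGroup hF).toSylow (U_index_not_dvd hm hF) with hP
    have hPU : (P : Subgroup (Cfsg.Sz F m)) = U hF := rfl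
    have hθP : IsPGroup 2 ((U hF).map θ.toMonoidHom) := (U_isPGroup hF).map _
    obtain ⟨Q, hQ⟩ := hθP.exists_le_sylow
    obtain ⟨g, hg⟩ := MulAction.exists_smul_eq (Cfsg.Sz F m) Q P
    have hmem : ∀ u ∈ U hF, g * θ u * g⁻¹ ∈ U hF := by
      intro u hu
      rw [← hPU, ← hg, Sylow.coe_subgroup_smul, Subgroup.mem_pointwise_smul_iff_inv_smul_mem]
      simp [MulAut.smul_def, mul_assoc]
      exact hQ ⟨u, hu, rfl⟩
    refine ⟨g, fun u => ⟨fun h => ?_, hmem u⟩⟩
    let f : U hF → U hF := fun v => ⟨(MulAut.conj g * θ) v, hmem v v.2⟩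
    have hf : Function.Injective f := fun v w e =>
      Subtype.ext ((MulAut.conj g * θ).injective (congrArg Subtype.val e))
    obtain ⟨v, hv⟩ := Finite.injective_iff_surjective.1 hf ⟨_, h⟩
    rw [← (MulAut.conj g * θ).injective (congrArg Subtype.val hv)]
    exact v.2
  set θ₁ := MulAut.conj g * θ with hθ₁
  -- the point `0`
  obtain ⟨x₀, y₀, hxy⟩ : ∃ x y, (θ₁ (WS hF) : SL(4, F)) • suzukiPointInfinity F = pt m x y := by
    rcases (ovoid_iff _).1 (smul_mem_ovoid (θ₁ (WS hF)).2 ovoid_inf) with h | h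
    · exfalso
      have hinvU : ∀ u, θ₁⁻¹ u ∈ U hF ↔ u ∈ U hF := fun u => by
        rw [← hg (θ₁⁻¹ u), MulAut.apply_inv_self]
      have h1 := map_stab hm hF hinvU (g := θ₁ (WS hF)) h
      rw [MulAut.inv_apply_self] at h1
      exact inf_ne_zero (h1.symm.trans (W_inf (F := F)))
    · exact h
  set θ₂ := MulAut.conj (TS hF x₀ y₀)⁻¹ * θ₁ with hθ₂
  have hU₂ : ∀ u, θ₂ u ∈ U hF ↔ u ∈ U hF := by
    intro u
    rw [← hg u, hθ₂, MulAut.mul_apply, MulAut.conj_apply, inv_inv]
    constructor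
    · intro h
      have := mul_mem (mul_mem (TS_mem_U hF x₀ y₀) h) (inv_mem (TS_mem_U hF x₀ y₀))
      simpa [mul_assoc] using this
    · intro h
      exact mul_mem (mul_mem (inv_mem (TS_mem_U hF x₀ y₀)) h) (TS_mem_U hF x₀ y₀)
  have hW₂ : (θ₂ (WS hF) : SL(4, F)) • suzukiPointInfinity F = suzukiPointZero F := by
    show (((TS hF x₀ y₀)⁻¹ * θ₁ (WS hF) * (TS hF x₀ y₀)⁻¹⁻¹ : Cfsg.Sz F m) : SL(4, F)) • _ = _
    rw [inv_inv, Subgroup.coe_mul, Subgroup.coe_mul, Subgroup.coe_inv, mul_smul, mul_smul]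
    show (T m x₀ y₀)⁻¹ • ((θ₁ (WS hF) : SL(4, F)) • (T m x₀ y₀ • suzukiPointInfinity F)) = _
    rw [T_inf, hxy, inv_smul_eq_iff, T_zero_pt hS]
  -- the torus
  have hφ : ∀ k, ∃ k', θ₂ (HS hF k) = HS hF k' := by
    intro k
    refine (mem_stab_pair hm hF).1 (Subgroup.mem_inf.2 ⟨map_stab hm hF hU₂ ?_, ?_⟩)
    · exact H_inf k
    · have h := map_stab hm hF hU₂ (g := (WS hF)⁻¹ * HS hF k * WS hF) (by
        rw [MulAction.mem_stabilizer_iff, mul_smul, mul_smul, inv_smul_eq_iff]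
        show H m k • ((W : SL(4, F)) • suzukiPointInfinity F) = (W : SL(4, F)) • suzukiPointInfinity F
        rw [W_inf, H_zero_pt hS])
      rw [MulAction.mem_stabilizer_iff, map_mul, map_mul, map_inv, mul_smul, mul_smul, inv_smul_eq_iff] at h
      rw [MulAction.mem_stabilizer_iff]
      rw [Subgroup.smul_def, Subgroup.smul_def, hW₂] at h
      exact h
  choose φ hφ using hφ
  have hα : ∀ a b, ∃ a' b', θ₂ (TS hF a b) = TS hF a' b' := by
    intro a b
    obtain ⟨a', b', e⟩ := (hU₂ _).2 (TS_mem_U hF a b)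
    exact ⟨a', b', Subtype.ext e⟩
  choose A B hAB using hα
  have hTinj : ∀ {a b a' b' : F}, TS hF a b = (TS hF a' b' : Cfsg.Sz F m) → a = a' ∧ b = b' :=
    fun {a b a' b'} h => Prod.ext_iff.1 (TS_injective hF (a₁ := (a, b)) (a₂ := (a', b')) h)
  have hTmul : ∀ a b a' b' : F,
      TS hF a b * TS hF a' b' = (TS hF (a + a') (b + b' + th m a * a') : Cfsg.Sz F m) :=
    fun a b a' b' => Subtype.ext (T_mul hS a b a' b')
  have hcenter : ∀ c, A 0 c = 0 := by
    intro c
    by_cases hc : c = 0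
    · subst hc
      have h1 := hAB 0 0
      have h00 : TS hF (0 : F) 0 = (1 : Cfsg.Sz F m) := Subtype.ext T_zero
      rw [h00, map_one, ← h00] at h1
      exact (hTinj h1).1.symm
    · obtain ⟨k, hk⟩ := exists_kth_eq hF hc
      have h1 : TS hF (k : F) 0 * TS hF (k : F) 0 = (TS hF 0 c : Cfsg.Sz F m) := by
        rw [hTmul, add_self hS, zero_add, zero_add, hk]
      have h2 := congrArg θ₂ h1
      rw [map_mul, hAB, hAB, hTmul, add_self hS] at h2
      exact (hTinj h2).1.symm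
  have hAadd : ∀ a b a' b', A (a + a') (b + b' + th m a * a') = A a b + A a' b' := by
    intro a b a' b'
    have h := congrArg θ₂ (hTmul a b a' b')
    rw [map_mul, hAB, hAB, hAB, hTmul] at h
    exact (hTinj h).1.symm
  have hAa : ∀ a b, A a b = A a 0 := by
    intro a b
    have h := hAadd a 0 0 b
    rw [add_zero, zero_add, mul_zero, add_zero, hcenter, add_zero] at h
    exact h
  have hAk : ∀ (k : Fˣ) a, A ((k : F) * a) 0 = (φ k : F) * A a 0 := by
    intro k a
    have h := congrArg θ₂ (H_conj_T hF k a 0)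
    rw [map_mul, map_mul, map_inv, hφ, hAB, hAB, H_conj_T] at h
    rw [mul_zero] at h
    exact (hTinj h).1.symm
  have hA1 : A 1 0 ≠ 0 := by
    intro h0
    have h1 : TS hF 1 0 * TS hF 1 0 = (TS hF 0 1 : Cfsg.Sz F m) := by
      rw [hTmul, add_self hS, zero_add, zero_add, th_one hS, one_mul]
    have h2 := congrArg θ₂ h1
    rw [map_mul, hAB, h0, hTmul, add_self hS, add_self hS, zero_add, th_zero hS, zero_mul] at h2
    have h00 : TS hF (0 : F) 0 = (1 : Cfsg.Sz F m) := Subtype.ext T_zero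
    rw [h00, ← map_one θ₂] at h2
    have h3 := θ₂.injective h2
    rw [← h00] at h3
    exact one_ne_zero (hTinj h3).2.symm
  -- normalise the action on the first coordinate
  set k₁ := Units.mk0 (A 1 0) hA1 with hk₁
  set θ₃ := MulAut.conj (HS hF k₁⁻¹) * θ₂ with hθ₃
  let α : F → F := fun a => (A 1 0)⁻¹ * A a 0
  have hα1 : α 1 = 1 := inv_mul_cancel₀ hA1
  have hαadd : ∀ a a', α (a + a') = α a + α a' := by
    intro a a'
    simp only [α]
    rw [← mul_add, ← hAadd a 0 a' 0, hAa (a + a') (0 + 0 + th m a * a')]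
  have hαk : ∀ (k : Fˣ), α (k : F) = (φ k : F) := by
    intro k
    simp only [α]
    rw [← mul_one (k : F), hAk, mul_left_comm, inv_mul_cancel₀ hA1, mul_one]
  have hαmul : ∀ a a', α (a * a') = α a * α a' := by
    intro a a'
    by_cases ha : a = 0
    · subst ha; simp [α, hcenter]
    · have e1 := hAk (Units.mk0 a ha) a'
      have e2 := hαk (Units.mk0 a ha)
      rw [Units.val_mk0] at e1 e2
      rw [e2]
      simp only [α]
      rw [e1]
      ring
  let αh : F →+* F :=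
    { toFun := α
      map_one' := hα1
      map_mul' := hαmul
      map_zero' := by simp [α, hcenter]
      map_add' := hαadd }
  let σ : RingAut F := RingEquiv.ofBijective αh
    ⟨RingHom.injective αh, Finite.injective_iff_surjective.1 (RingHom.injective αh)⟩
  have hσ : ∀ a, σ a = α a := fun a => rfl
  have hsymm : ∀ a, σ⁻¹ (α a) = a := fun a => σ.symm_apply_apply a
  have hTS₃ : ∀ a b, ∃ c, θ₃ (TS hF a b) = TS hF (α a) c := by
    intro a b
    refine ⟨th m ((k₁⁻¹ : Fˣ) : F) * ((k₁⁻¹ : Fˣ) : F) * B a b, ?_⟩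
    rw [hθ₃, MulAut.mul_apply, MulAut.conj_apply, hAB, H_conj_T, hAa]
    simp [α, hk₁]
  have hHS₃ : ∀ k, θ₃ (HS hF k) = HS hF (φ k) := by
    intro k
    rw [hθ₃, MulAut.mul_apply, MulAut.conj_apply, hφ, mul_inv_eq_iff_eq_mul]
    apply Subtype.ext
    show H m k₁⁻¹ * H m (φ k) = H m (φ k) * H m k₁⁻¹
    rw [← H_mul, ← H_mul, mul_comm]
  set θ₄ := sigAut hm hF σ⁻¹ * θ₃ with hθ₄
  have hTS₄ : ∀ a b, ∃ c, θ₄ (TS hF a b) = TS hF a c := by
    intro a b
    obtain ⟨c, hc⟩ := hTS₃ a b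
    exact ⟨σ⁻¹ c, by rw [hθ₄, MulAut.mul_apply, hc, sigAut_TS, hsymm]⟩
  have hHS₄ : ∀ k, θ₄ (HS hF k) = HS hF k := by
    intro k
    rw [hθ₄, MulAut.mul_apply, hHS₃, sigAut_HS]
    congr 1
    exact Units.ext (by show σ⁻¹ (φ k : F) = (k : F); rw [← hαk, hsymm])
  choose b₄ hb₄ using hTS₄
  have hz : ∀ c, b₄ 0 c = c := by
    intro c
    by_cases hc : c = 0
    · subst hc
      have h00 : TS hF (0 : F) 0 = (1 : Cfsg.Sz F m) := Subtype.ext T_zero
      have h1 := hb₄ 0 0
      rw [h00, map_one, ← h00] at h1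
      exact (hTinj h1).2.symm
    · obtain ⟨k, hk⟩ := exists_kth_eq hF hc
      have h1 : TS hF (k : F) 0 * TS hF (k : F) 0 = (TS hF 0 c : Cfsg.Sz F m) := by
        rw [hTmul, add_self hS, zero_add, zero_add, hk]
      have h2 := congrArg θ₄ h1
      rw [map_mul, hb₄, hb₄, hTmul, add_self hS, add_self hS, zero_add, hk] at h2
      exact (hTinj h2).2.symm
  have hbadd : ∀ a b a' b', b₄ (a + a') (b + b' + th m a * a') = b₄ a b + b₄ a' b' + th m a * a' := by
    intro a b a' b'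
    have h := congrArg θ₄ (hTmul a b a' b')
    rw [map_mul, hb₄, hb₄, hb₄, hTmul] at h
    exact (hTinj h).2.symm
  have hbk : ∀ k : Fˣ, b₄ (k : F) 0 = th m (k : F) * k * b₄ 1 0 := by
    intro k
    have h := congrArg θ₄ (H_conj_T hF k 1 0)
    rw [map_mul, map_mul, map_inv, hHS₄, hb₄, hb₄, H_conj_T] at h
    rw [mul_one, mul_zero] at h
    exact (hTinj h).2.symm
  have hb0 : ∀ a, b₄ a 0 = th m a * a * b₄ 1 0 := by
    intro a
    by_cases ha : a = 0
    · subst ha; rw [hz, th_zero hS, zero_mul, zero_mul]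
    · exact hbk (Units.mk0 a ha)
  have hbz : ∀ a b, b₄ a b = b₄ a 0 + b := by
    intro a b
    have h := hbadd a 0 0 b
    rw [add_zero, zero_add, mul_zero, add_zero, add_zero, hz] at h
    exact h
  have hc0 : b₄ 1 0 = 0 := by
    obtain ⟨a, ha⟩ := exists_th_ne (F := F) hm hF
    have h := hbadd 1 0 a 0
    rw [hbz, hb0, hb0 a, th_add hS, th_one hS] at h
    have h2 := two_eq_zero hS
    have h3 : b₄ 1 0 * (th m a + a) = 0 := by linear_combination h
    refine (mul_eq_zero.1 h3).resolve_right fun e => ha ?_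
    rw [eq_neg_of_add_eq_zero_left e, neg_eq hS]
  have hfixT : ∀ a b, θ₄ (TS hF a b) = TS hF a b := fun a b => by
    rw [hb₄, hbz, hb0, hc0, mul_zero, zero_add]
  -- the involution
  have hsig : ∀ (τ : RingAut F) (g : Cfsg.Sz F m), (g : SL(4, F)) • suzukiPointInfinity F = suzukiPointZero F →
      (sigAut hm hF τ g : SL(4, F)) • suzukiPointInfinity F = suzukiPointZero F := by
    intro τ g hg0
    rcases decomp hm hF g with ⟨a, b, k, rfl⟩ | ⟨x, y, a, b, k, rfl⟩
    · exfalso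
      apply inf_ne_zero (F := F)
      rw [← hg0]
      show suzukiPointInfinity F = (T m a b * H m k) • suzukiPointInfinity F
      rw [mul_smul, H_inf, T_inf]
    · have h1 : (T m x y * W * (T m a b * H m k)) • suzukiPointInfinity F = pt m 0 0 := by
        rw [pt_zero_zero]; exact hg0
      rw [mul_smul, mul_smul, mul_smul, H_inf, T_inf, W_inf, T_zero_pt hS] at h1
      obtain ⟨rfl, rfl⟩ := pt_inj h1
      show sigSL τ (T m 0 0 * W * (T m a b * H m k)) • _ = _
      rw [map_mul, map_mul, map_mul, sigSL_T, sigSL_T, sigSL_H, sigSL_W, map_zero, mul_smul, mul_smul,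
        mul_smul, H_inf, T_inf, W_inf, T_zero_pt hS, pt_zero_zero]
  have hW₄ : (θ₄ (WS hF) : SL(4, F)) • suzukiPointInfinity F = suzukiPointZero F := by
    rw [hθ₄, MulAut.mul_apply]
    refine hsig _ _ ?_
    rw [hθ₃, MulAut.mul_apply, MulAut.conj_apply]
    show (H m k₁⁻¹ * (θ₂ (WS hF) : SL(4, F)) * (H m k₁⁻¹)⁻¹) • suzukiPointInfinity F = _
    rw [← H_inv, mul_smul, mul_smul, H_inf, hW₂, H_zero_pt hS]
  have hinf : ∀ g : Cfsg.Sz F m,
      (θ₄ g : SL(4, F)) • suzukiPointInfinity F = (g : SL(4, F)) • suzukiPointInfinity F := by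
    intro g
    rcases decomp hm hF g with ⟨a, b, k, rfl⟩ | ⟨x, y, a, b, k, rfl⟩
    · rw [map_mul, hfixT, hHS₄]
    · rw [map_mul, map_mul, map_mul, hfixT, hfixT, hHS₄]
      show (T m x y * (θ₄ (WS hF) : SL(4, F)) * (T m a b * H m k)) • suzukiPointInfinity F =
        (T m x y * W * (T m a b * H m k)) • suzukiPointInfinity F
      simp only [mul_smul, H_inf, T_inf, hW₄, W_inf]
  have hid : ∀ g, θ₄ g = g := by
    intro g
    haveI := faithful (F := F) hm hF
    refine eq_of_smul_eq_smul (α := suzukiOvoid F m) fun p => ?_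
    obtain ⟨h, rfl⟩ := MulAction.exists_smul_eq (Cfsg.Sz F m) (⟨_, ovoid_inf⟩ : suzukiOvoid F m) p
    have e1 : θ₄ h • (⟨_, ovoid_inf⟩ : suzukiOvoid F m) = h • ⟨_, ovoid_inf⟩ := Subtype.ext (hinf h)
    have e2 : θ₄ (g * h) • (⟨_, ovoid_inf⟩ : suzukiOvoid F m) = (g * h) • ⟨_, ovoid_inf⟩ :=
      Subtype.ext (hinf (g * h))
    rw [map_mul, mul_smul, mul_smul, e1] at e2
    exact e2
  have h3σ : θ₃ = sigAut hm hF σ := by
    refine MulEquiv.ext fun g => ?_
    conv_rhs => rw [← hid g, hθ₄, MulAut.mul_apply]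
    exact ((sigAut hm hF σ).apply_symm_apply (θ₃ g)).symm
  refine ⟨(HS hF k₁⁻¹ * (TS hF x₀ y₀)⁻¹ * g)⁻¹, σ, ?_⟩
  rw [← h3σ, hθ₃, hθ₂, hθ₁, map_inv, map_mul, map_mul, eq_inv_mul_iff_mul_eq]
  simp only [mul_assoc]

theorem aut_inj {x y : Cfsg.Sz F m} {σ τ : RingAut F}
    (h : MulAut.conj x * sigAut hm hF σ = MulAut.conj y * sigAut hm hF τ) : x = y ∧ σ = τ := by
  classical
  have hS := isSuzField hF
  set z := y⁻¹ * x with hz
  have h' : ∀ g, z * sigAut hm hF σ g * z⁻¹ = sigAut hm hF τ g := by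
    intro g
    have h1 := MulEquiv.congr_fun h g
    simp only [MulAut.mul_apply, MulAut.conj_apply] at h1
    calc z * sigAut hm hF σ g * z⁻¹ = y⁻¹ * (x * sigAut hm hF σ g * x⁻¹) * y := by rw [hz]; group
      _ = _ := by rw [h1]; group
  have hT : ∀ a b, z * TS hF (σ a) (σ b) * z⁻¹ = TS hF (τ a) (τ b) := by
    intro a b
    rw [← sigAut_TS hm hF σ, h', sigAut_TS]
  have hzst : z⁻¹ ∈ MulAction.stabilizer (Cfsg.Sz F m) (suzukiPointInfinity F) := by
    refine mem_stab_of_normalizes hm hF fun u hu => ?_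
    obtain ⟨a, b, e⟩ := hu
    obtain ⟨a', rfl⟩ := σ.surjective a
    obtain ⟨b', rfl⟩ := σ.surjective b
    rw [inv_inv, show u = TS hF (σ a') (σ b') from Subtype.ext e, hT]
    exact TS_mem_U hF _ _
  obtain ⟨a, b, k, hk⟩ := (mem_stab_inf hm hF).1 hzst
  -- the torus is normalised as well
  obtain ⟨l, hl⟩ : ∃ l : Fˣ, l ≠ 1 := by
    obtain ⟨c, hc⟩ := exists_th_ne (F := F) hm hF
    have hc0 : c ≠ 0 := fun e => hc (by rw [e, th_zero hS])
    exact ⟨Units.mk0 c hc0, fun e => hc (by rw [show c = 1 from congrArg Units.val e, th_one hS])⟩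
  have hHl : HS hF (Units.map σ.toRingHom.toMonoidHom l) * z⁻¹ = z⁻¹ * HS hF (Units.map τ.toRingHom.toMonoidHom l) := by
    rw [← sigAut_HS hm hF σ, ← sigAut_HS hm hF τ, ← h']
    group
  have hab : a = 0 ∧ b = 0 := by
    by_contra hab
    apply hl
    have e := congrArg (fun g : Cfsg.Sz F m => (g : SL(4, F)) • suzukiPointZero F) hHl
    rw [hk] at e
    simp only [Subgroup.coe_mul] at e
    change (H m _ * (T m a b * H m k)) • suzukiPointZero F = (T m a b * H m k * H m _) • suzukiPointZero F at e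
    simp only [mul_smul, H_zero_pt hS, T_zero_pt hS] at e
    have := H_fix_pt hF e hab
    exact Units.ext (σ.injective (by simpa using congrArg Units.val this))
  obtain ⟨rfl, rfl⟩ := hab
  have hk' : z⁻¹ = HS hF k := by
    rw [hk]
    apply Subtype.ext
    show T m 0 0 * H m k = H m k
    rw [T_zero, one_mul]
  have hz' : z = HS hF k⁻¹ := by
    rw [← inv_inv z, hk']
    exact Subtype.ext (H_inv k).symm
  have hk1 : k = 1 := by
    have e := hT 1 0
    rw [map_one, map_one, map_zero, map_zero, hz', H_conj_T] at e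
    have := (Prod.ext_iff.1 (TS_injective hF (a₁ := (_, _)) (a₂ := (_, _)) e)).1
    simp at this
    exact this
  have hz1 : z = 1 := by rw [hz', hk1, inv_one]; exact Subtype.ext H_one
  refine ⟨(inv_mul_eq_one.1 hz1).symm, RingEquiv.ext fun a => ?_⟩
  have e := hT a 0
  rw [hz1, one_mul, inv_one, mul_one] at e
  exact (Prod.ext_iff.1 (TS_injective hF (a₁ := (_, _)) (a₂ := (_, _)) e)).1

/-- the number of automorphisms -/
theorem card_mulAut : Nat.card (MulAut (Cfsg.Sz F m)) = Nat.card (Cfsg.Sz F m) * (2 * m + 1) := by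
  haveI : Fact (Nat.Prime 2) := ⟨Nat.prime_two⟩
  rw [← CfsgLib.AutPSL.card_ringAut (F := F) hF, ← Nat.card_prod]
  refine (Nat.card_eq_of_bijective (fun p : Cfsg.Sz F m × RingAut F => MulAut.conj p.1 * sigAut hm hF p.2)
    ⟨fun p q h => Prod.ext (aut_inj hm hF h).1 (aut_inj hm hF h).2, fun θ => ?_⟩).symm
  obtain ⟨x, σ, rfl⟩ := aut_decomp hm hF θ
  exact ⟨(x, σ), rfl⟩

theorem conj_injective : Function.Injective (MulAut.conj : Cfsg.Sz F m →* MulAut (Cfsg.Sz F m)) :=
  fun x y h => (aut_inj hm hF (σ := 1) (τ := 1) (by rw [h])).1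

/-- the outer automorphism group has order `2m+1` -/
theorem card_out : Nat.card (Cfsg.Out ↥(Cfsg.Lie.Sz F (2 ^ (m + 1)))) = 2 * m + 1 := by
  obtain ⟨e⟩ := exists_twEquiv (F := F) hm hF
  set G := ↥(Cfsg.Lie.Sz F (2 ^ (m + 1)))
  let c : MulAut (Cfsg.Sz F m) ≃ MulAut G :=
    { toFun := fun θ => (e.symm.trans θ).trans e
      invFun := fun θ => (e.trans θ).trans e.symm
      left_inv := fun θ => MulEquiv.ext fun g => by simp
      right_inv := fun θ => MulEquiv.ext fun g => by simp }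
  have hinj : Function.Injective (MulAut.conj : G →* MulAut G) := by
    intro x y h
    apply e.symm.injective
    refine conj_injective hm hF (MulEquiv.ext fun g => e.injective ?_)
    simpa using MulEquiv.congr_fun h (e g)
  have h1 : Nat.card (Cfsg.Inn G) = Nat.card G :=
    (Nat.card_congr (MonoidHom.ofInjective hinj).toEquiv).symm
  have h2 := Subgroup.card_eq_card_quotient_mul_card_subgroup (Cfsg.Inn G)
  rw [h1, ← Nat.card_congr c, card_mulAut hm hF, Nat.card_congr e.toEquiv, mul_comm] at h2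
  exact (Nat.eq_of_mul_eq_mul_right Nat.card_pos h2).symm

end CfsgLib.Lie.Suz
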