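import Cfsg.Agent.Lib.Lie.Suz.Cyclic

/-!
# The two classes of maximal tori without fixed points
-/

set_option autoImplicit false

namespace CfsgLib.Lie.Suz

open Cfsg
open scoped MatrixGroups Pointwise

variable {F : Type*} [Field F] [Fintype F] {m : ℕ}

/-- acting without fixed points on the ovoid -/
def Free (g : Cfsg.Sz F m) : Prop := ∀ a : suzukiOvoid F m, g • a ≠ a

/-- the centraliser of a free element of prime order -/
def IsTorus (T : Subgroup (Cfsg.Sz F m)) : Prop :=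
  ∃ y : Cfsg.Sz F m, (orderOf y).Prime ∧ Free y ∧ T = Subgroup.centralizer {y}

variable (hm : 1 ≤ m) (hF : Fintype.card F = 2 ^ (2 * m + 1))

include hm hF

omit hm in
theorem prime_of_dvd_n {r : ℕ} (hr : r.Prime) (h : r ∣ Fintype.card F ^ 2 + 1) : r ≠ 2 ∧ r ≠ 3 := by
  refine ⟨?_, ?_⟩
  · rintro rfl
    exact Nat.prime_two.not_dvd_one ((Nat.dvd_add_right (dvd_pow (two_dvd_q hF) two_ne_zero)).1 h)
  · rintro rfl
    have h1 : ((Fintype.card F ^ 2 + 1 : ℕ) : ZMod 3) = 0 := (ZMod.natCast_eq_zero_iff _ _).2 h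
    rw [hF] at h1
    push_cast at h1
    rw [← pow_mul, mul_comm (2 * m + 1) 2, pow_mul, show ((2 : ZMod 3)) ^ 2 = 1 from rfl, one_pow] at h1
    exact absurd h1 (by decide)

theorem card_group : Nat.card (Cfsg.Sz F m) =
    Fintype.card F ^ 2 * (Fintype.card F ^ 2 + 1) * (Fintype.card F - 1) := card_Sz hm hF

omit hm in
theorem coprime_parts {r : ℕ} (hr : r.Prime) (h : r ∣ Fintype.card F ^ 2 + 1) :
    ¬ r ∣ Fintype.card F ^ 2 ∧ ¬ r ∣ Fintype.card F - 1 := by
  refine ⟨fun hd' => hr.not_dvd_one ((Nat.dvd_add_right hd').1 h), fun hd' => ?_⟩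
  have h1 : r ∣ Fintype.card F ^ 2 - 1 := by
    refine hd'.trans ?_
    simpa using Nat.sub_dvd_pow_sub_pow (Fintype.card F) 1 2
  have h2 : r ∣ 2 := by
    have h3 := Nat.dvd_sub h h1
    have : 1 ≤ Fintype.card F ^ 2 := Nat.one_le_pow _ _ Fintype.card_pos
    rwa [show Fintype.card F ^ 2 + 1 - (Fintype.card F ^ 2 - 1) = 2 by omega] at h3
  exact (prime_of_dvd_n hF hr h).1 ((Nat.prime_dvd_prime_iff_eq hr Nat.prime_two).1 h2)

theorem prime_free {y : Cfsg.Sz F m} {r : ℕ} (hr : r.Prime) (hy : orderOf y = r)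
    (h : r ∣ Fintype.card F ^ 2 + 1) : Free y := by
  intro a ha
  have hst : y ∈ MulAction.stabilizer (Cfsg.Sz F m) a := ha
  have h1 : r ∣ Nat.card (MulAction.stabilizer (Cfsg.Sz F m) a) := hy ▸ Subgroup.orderOf_dvd_natCard _ hst
  have h2 := Subgroup.card_mul_index (MulAction.stabilizer (Cfsg.Sz F m) a)
  haveI : MulAction.IsPretransitive (Cfsg.Sz F m) (suzukiOvoid F m) := by
    haveI := two_trans hF (m := m)
    exact MulAction.isPretransitive_of_is_two_pretransitive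
  rw [MulAction.index_stabilizer_of_transitive, card_omega hF, card_group hm hF,
    mul_comm (Fintype.card F ^ 2) (Fintype.card F ^ 2 + 1), mul_assoc, mul_comm] at h2
  have h3 : Nat.card (MulAction.stabilizer (Cfsg.Sz F m) a) = Fintype.card F ^ 2 * (Fintype.card F - 1) :=
    Nat.eq_of_mul_eq_mul_left (by omega) h2
  rw [h3] at h1
  rcases hr.dvd_mul.1 h1 with h4 | h4
  · exact (coprime_parts hF hr h).1 h4
  · exact (coprime_parts hF hr h).2 h4

theorem free_prime_dvd {y : Cfsg.Sz F m} (hy : (orderOf y).Prime) (hfree : Free y) :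
    orderOf y ∣ Fintype.card F ^ 2 + 1 := by
  haveI := Fact.mk hy
  rcases dvd_or_fix hm hF (P := Subgroup.zpowers y)
    (IsPGroup.of_card (n := 1) (by rw [Nat.card_zpowers, pow_one])) with h | ⟨a, ha⟩
  · exact h
  · exact absurd (ha y (Subgroup.mem_zpowers y)) (hfree a)

theorem torus_cyclic {T : Subgroup (Cfsg.Sz F m)} (hT : IsTorus T) : IsCyclic T := by
  obtain ⟨y, hy, hfree, rfl⟩ := hT
  rcases centralizer_cases hm hF (x := y) (fun h => by rw [h, orderOf_one] at hy; exact Nat.not_prime_one hy) with h | h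
  · exact h
  · exfalso
    obtain ⟨k, hk⟩ := h ⟨y, Subgroup.mem_centralizer_singleton_iff.2 rfl⟩
    have h1 : orderOf y ∣ 2 ^ k := orderOf_dvd_of_pow_eq_one (congrArg Subtype.val hk)
    exact (prime_of_dvd_n hF hy (free_prime_dvd hm hF hy hfree)).1
      ((Nat.prime_dvd_prime_iff_eq hy Nat.prime_two).1 (hy.dvd_of_dvd_pow h1))

theorem torus_elt {T : Subgroup (Cfsg.Sz F m)} (hT : IsTorus T) {t : Cfsg.Sz F m} (ht : t ∈ T)
    (ht1 : t ≠ 1) : Free t ∧ Subgroup.centralizer {t} = T := by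
  have hcyc := torus_cyclic hm hF hT
  obtain ⟨y, hy, hfree, rfl⟩ := hT
  have hy1 : y ≠ 1 := fun h => by rw [h, orderOf_one] at hy; exact Nat.not_prime_one hy
  have hodd : ¬ 2 ∣ orderOf y := fun h => (prime_of_dvd_n hF hy (free_prime_dvd hm hF hy hfree)).1
    ((Nat.prime_dvd_prime_iff_eq Nat.prime_two hy).1 h).symm
  have hcomm : t * y = y * t := Subgroup.mem_centralizer_singleton_iff.1 ht
  refine ⟨fun a ha => ?_, le_antisymm (fun g hg => ?_) (fun g hg => ?_)⟩
  · have h1 := centralizer_maps_fixed hF hcomm.symm ha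
    have h2 := centralizer_maps_fixed hF hcomm.symm h1
    rcases three_of hF ht1 hm (Ne.symm (hfree a)) ha h1 h2 with h | h
    · have hsq : (y * y) • a = a := by rw [mul_smul]; exact h
      obtain ⟨j, hj⟩ : Odd (orderOf y) := Nat.not_even_iff_odd.1 fun h => hodd (even_iff_two_dvd.1 h)
      have hpow : ∀ i : ℕ, ((y * y) ^ i) • a = a := fun i => by
        induction i with
        | zero => simp
        | succ i ih => rw [pow_succ, mul_smul, hsq, ih]
      have e : (y * y) ^ (j + 1) = y := by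
        rw [← pow_two, ← pow_mul, show 2 * (j + 1) = orderOf y + 1 by omega, pow_succ,
          pow_orderOf_eq_one, one_mul]
      exact hfree a (e ▸ hpow (j + 1))
    · exact hfree (y • a) h
  · have hg' : g * t = t * g := Subgroup.mem_centralizer_singleton_iff.1 hg
    have hyt : y ∈ Subgroup.centralizer ({t} : Set (Cfsg.Sz F m)) :=
      Subgroup.mem_centralizer_singleton_iff.2 hcomm.symm
    rcases centralizer_cases hm hF ht1 with h | h
    · haveI := h
      letI := h.commGroup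
      exact Subgroup.mem_centralizer_singleton_iff.2
        (congrArg Subtype.val (mul_comm (⟨g, hg⟩ : Subgroup.centralizer ({t} : Set (Cfsg.Sz F m))) ⟨y, hyt⟩))
    · exfalso
      obtain ⟨k, hk⟩ := h ⟨y, hyt⟩
      have h1 : orderOf y ∣ 2 ^ k := orderOf_dvd_of_pow_eq_one (congrArg Subtype.val hk)
      exact (prime_of_dvd_n hF hy (free_prime_dvd hm hF hy hfree)).1
        ((Nat.prime_dvd_prime_iff_eq hy Nat.prime_two).1 (hy.dvd_of_dvd_pow h1))
  · haveI := hcyc
    letI := hcyc.commGroup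
    exact Subgroup.mem_centralizer_singleton_iff.2
      (congrArg Subtype.val (mul_comm (⟨g, hg⟩ : Subgroup.centralizer ({y} : Set (Cfsg.Sz F m))) ⟨t, ht⟩))

theorem torus_card_dvd {T : Subgroup (Cfsg.Sz F m)} (hT : IsTorus T) :
    Nat.card T ∣ Fintype.card F ^ 2 + 1 := by
  classical
  rw [← card_omega hF (m := m)]
  have hfree : ∀ a : suzukiOvoid F m, MulAction.stabilizer T a = ⊥ := fun a => by
    rw [Subgroup.eq_bot_iff_forall]
    intro t ht
    by_contra h
    exact (torus_elt hm hF hT t.2 (fun e => h (Subtype.ext e))).1 a ht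
  haveI : Fintype (suzukiOvoid F m) := Fintype.ofFinite _
  rw [Nat.card_congr (MulAction.selfEquivSigmaOrbits T (suzukiOvoid F m)), Nat.card_sigma]
  refine Finset.dvd_sum fun ω _ => ?_
  have h1 := MulAction.index_stabilizer (G := T) (x := Quotient.out ω)
  rw [hfree, Subgroup.index_bot, ← Nat.card_coe_set_eq] at h1
  rw [h1]

theorem free_centralizer {g : Cfsg.Sz F m} (hg : Free g) : IsTorus (Subgroup.centralizer {g}) := by
  classical
  have hg1 : g ≠ 1 := fun h => hg ⟨_, ovoid_inf⟩ (by rw [h, one_smul])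
  have hord : orderOf g ≠ 1 := fun h => hg1 (orderOf_eq_one_iff.1 h)
  obtain ⟨p, hp, hpd⟩ := Nat.exists_prime_and_dvd hord
  set y := g ^ (orderOf g / p) with hy
  have hyo : orderOf y = p := orderOf_pow_orderOf_div (orderOf_pos g).ne' hpd
  have hy1 : y ≠ 1 := fun h => by rw [h, orderOf_one] at hyo; exact hp.ne_one hyo.symm
  have hcomm : g * y = y * g := (Commute.self_pow g _).eq
  by_cases hfy : Free y
  · have hT : IsTorus (Subgroup.centralizer ({y} : Set (Cfsg.Sz F m))) := ⟨y, hyo.symm ▸ hp, hfy, rfl⟩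
    rw [(torus_elt hm hF hT (Subgroup.mem_centralizer_singleton_iff.2 hcomm) hg1).2]
    exact hT
  · exfalso
    simp only [Free, not_forall, not_not] at hfy
    obtain ⟨a, ha⟩ := hfy
    have h1 := centralizer_maps_fixed hF hcomm ha
    by_cases htwo : ∃ b, b ≠ a ∧ y • b = b
    · obtain ⟨b, hb, hby⟩ := htwo
      obtain ⟨c, hc⟩ := centralizer_two_fixed hm hF hy1 (Ne.symm hb) ha hby
      obtain ⟨_, ⟨k, rfl⟩, hk⟩ := hc (Subgroup.mem_centralizer_singleton_iff.2 hcomm :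
        g ∈ Subgroup.centralizer {y})
      refine hg (c • ⟨_, ovoid_inf⟩) ?_
      rw [← hk]
      show (c * HS hF k * c⁻¹) • c • _ = c • _
      rw [mul_smul, inv_smul_smul, mul_smul]
      congr 1
      exact Subtype.ext (H_inf k)
    · push Not at htwo
      exact hg a (by_contra fun hne => htwo _ hne h1)

omit hm hF in
/-- the conjugates of the non-identity elements of a subgroup -/
def Dset (T : Subgroup (Cfsg.Sz F m)) : Set (Cfsg.Sz F m) :=
  {g | ∃ c : Cfsg.Sz F m, ∃ u ∈ T, u ≠ 1 ∧ c * u * c⁻¹ = g}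

omit hm hF in
theorem centralizer_conj (c u : Cfsg.Sz F m) :
    Subgroup.centralizer ({c * u * c⁻¹} : Set (Cfsg.Sz F m)) =
      (Subgroup.centralizer ({u} : Set (Cfsg.Sz F m))).map (MulAut.conj c).toMonoidHom := by
  ext g
  rw [Subgroup.mem_map_equiv, Subgroup.mem_centralizer_singleton_iff, Subgroup.mem_centralizer_singleton_iff]
  simp only [MulAut.conj_symm_apply]
  constructor
  · intro h
    calc c⁻¹ * g * c * u = c⁻¹ * (g * (c * u * c⁻¹)) * c := by group
      _ = _ := by rw [h]; group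
  · intro h
    calc g * (c * u * c⁻¹) = c * (c⁻¹ * g * c * u) * c⁻¹ := by group
      _ = _ := by rw [h]; group

theorem card_Dset {T : Subgroup (Cfsg.Sz F m)} (hT : IsTorus T) :
    Nat.card (Dset T) * Nat.card (Subgroup.normalizer (T : Set (Cfsg.Sz F m))) =
      Nat.card (Cfsg.Sz F m) * (Nat.card T - 1) := by
  classical
  haveI : Fintype (Cfsg.Sz F m) := Fintype.ofFinite _
  set N := Subgroup.normalizer (T : Set (Cfsg.Sz F m))
  set T' := Finset.univ.filter fun u : Cfsg.Sz F m => u ∈ T ∧ u ≠ 1 with hT'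
  have hT'c : T'.card = Nat.card T - 1 := by
    have e : T' = (Finset.univ.filter fun u : Cfsg.Sz F m => u ∈ T).erase 1 := by
      ext u
      simp [hT', and_comm]
    rw [e, Finset.card_erase_of_mem (by simp), ← Fintype.card_subtype, ← Nat.card_eq_fintype_card]
  let f : Cfsg.Sz F m × Cfsg.Sz F m → Cfsg.Sz F m := fun p => p.1 * p.2 * p.1⁻¹
  set D := Finset.univ.filter fun g : Cfsg.Sz F m => g ∈ Dset T with hD
  have hmap : ∀ p ∈ (Finset.univ ×ˢ T'), f p ∈ D := by
    rintro ⟨c, u⟩ hp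
    simp only [hT', Finset.mem_product, Finset.mem_filter, Finset.mem_univ, true_and] at hp
    simp only [hD, Finset.mem_filter, Finset.mem_univ, true_and]
    exact ⟨c, u, hp.1, hp.2, rfl⟩
  have hsum := Finset.card_eq_sum_card_fiberwise hmap
  have hfib : ∀ g ∈ D, ((Finset.univ ×ˢ T').filter fun p => f p = g).card = Nat.card N := by
    intro g hg
    simp only [hD, Finset.mem_filter, Finset.mem_univ, true_and] at hg
    obtain ⟨c₀, u₀, hu₀, hu₀1, hg0⟩ := hg
    rw [Nat.card_eq_fintype_card, Fintype.card_subtype]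
    refine Finset.card_bij' (fun p _ => c₀⁻¹ * p.1) (fun n _ => (c₀ * n, n⁻¹ * u₀ * n)) ?_ ?_ ?_ ?_
    · rintro ⟨c, u⟩ hp
      simp only [hT', f, Finset.mem_product, Finset.mem_filter, Finset.mem_univ, true_and] at hp
      obtain ⟨⟨hu, hu1⟩, hcu⟩ := hp
      simp only [Finset.mem_filter, Finset.mem_univ, true_and]
      have e : (c₀⁻¹ * c) * u * (c₀⁻¹ * c)⁻¹ = u₀ := by
        calc (c₀⁻¹ * c) * u * (c₀⁻¹ * c)⁻¹ = c₀⁻¹ * (c * u * c⁻¹) * c₀ := by group
          _ = _ := by rw [hcu, ← hg0]; group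
      have h1 : T.map (MulAut.conj (c₀⁻¹ * c)).toMonoidHom = T := by
        conv_lhs => rw [← (torus_elt hm hF hT hu hu1).2]
        rw [← centralizer_conj, e, (torus_elt hm hF hT hu₀ hu₀1).2]
      refine Subgroup.mem_normalizer_iff.2 fun x => ?_
      constructor
      · intro hx
        rw [← h1]
        exact ⟨x, hx, rfl⟩
      · intro hx
        rw [← h1] at hx
        obtain ⟨z, hz, e'⟩ := hx
        have : z = x := by
          have e'' : (c₀⁻¹ * c) * z * (c₀⁻¹ * c)⁻¹ = (c₀⁻¹ * c) * x * (c₀⁻¹ * c)⁻¹ := e'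
          exact mul_left_cancel (mul_right_cancel e'')
        exact this ▸ hz
    · intro n hn
      simp only [Finset.mem_filter, Finset.mem_univ, true_and] at hn
      simp only [hT', f, Finset.mem_product, Finset.mem_filter, Finset.mem_univ, true_and]
      refine ⟨⟨?_, ?_⟩, ?_⟩
      · have := (Subgroup.mem_normalizer_iff.1 (inv_mem hn) u₀).1 hu₀
        simpa using this
      · intro h
        exact hu₀1 (conj_eq_one_iff.1 (by simpa using h : n⁻¹ * u₀ * n⁻¹⁻¹ = 1))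
      · rw [← hg0]; group
    · rintro ⟨c, u⟩ hp
      simp only [hT', f, Finset.mem_product, Finset.mem_filter, Finset.mem_univ, true_and] at hp
      refine Prod.ext (mul_inv_cancel_left _ _) ?_
      show (c₀⁻¹ * c)⁻¹ * u₀ * (c₀⁻¹ * c) = u
      calc (c₀⁻¹ * c)⁻¹ * u₀ * (c₀⁻¹ * c) = c⁻¹ * (c₀ * u₀ * c₀⁻¹) * c := by group
        _ = _ := by rw [hg0, ← hp.2]; group
    · intro n _
      simp
  rw [Finset.sum_congr rfl hfib, Finset.sum_const, smul_eq_mul, Finset.card_product, Finset.card_univ,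
    hT'c] at hsum
  rw [Nat.card_eq_fintype_card (α := Cfsg.Sz F m), hsum]
  congr 1
  rw [hD, Nat.card_eq_fintype_card, Fintype.card_subtype]

theorem three_not_dvd : ¬ 3 ∣ Nat.card (Cfsg.Sz F m) := by
  rw [card_group hm hF]
  intro h
  have h3 : Nat.Prime 3 := Nat.prime_three
  rcases h3.dvd_mul.1 h with h | h
  · rcases h3.dvd_mul.1 h with h | h
    · have := h3.dvd_of_dvd_pow h
      rw [hF] at this
      exact absurd ((Nat.prime_dvd_prime_iff_eq h3 Nat.prime_two).1 (h3.dvd_of_dvd_pow this)) (by norm_num)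
    · exact (prime_of_dvd_n hF h3 h).2 rfl
  · have h1 : ((Fintype.card F - 1 : ℕ) : ZMod 3) = 0 := (ZMod.natCast_eq_zero_iff _ _).2 h
    rw [Nat.cast_sub Fintype.card_pos, hF] at h1
    push_cast at h1
    rw [pow_succ, pow_mul, show ((2 : ZMod 3)) ^ 2 = 1 from rfl, one_pow] at h1
    exact absurd h1 (by decide)

theorem normalizer_index {T : Subgroup (Cfsg.Sz F m)} (hT : IsTorus T) :
    ∃ k : ℕ, (k = 1 ∨ k = 2 ∨ k = 4) ∧
      Nat.card (Subgroup.normalizer (T : Set (Cfsg.Sz F m))) = k * Nat.card T := by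
  classical
  set N := Subgroup.normalizer (T : Set (Cfsg.Sz F m)) with hN
  have hle : T ≤ N := Subgroup.le_normalizer
  obtain ⟨k, hk⟩ := Subgroup.card_dvd_of_le hle
  refine ⟨k, ?_, by rw [hk, mul_comm]⟩
  have hk3 : k ≠ 3 := by
    rintro rfl
    exact three_not_dvd hm hF ((Dvd.intro_left _ hk.symm).trans (Subgroup.card_subgroup_dvd_card N))
  have hk0 : k ≠ 0 := by
    rintro rfl
    rw [mul_zero] at hk
    exact Nat.card_pos.ne' hk
  suffices k ≤ 4 by omega
  obtain ⟨y, hy, hfree, hTy⟩ := id hT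
  have hy1 : y ≠ 1 := fun h => by rw [h, orderOf_one] at hy; exact Nat.not_prime_one hy
  have hyT : y ∈ T := hTy ▸ Subgroup.mem_centralizer_singleton_iff.2 rfl
  have hp2 := (prime_of_dvd_n hF hy (free_prime_dvd hm hF hy hfree)).1
  obtain ⟨μ, hμ4, hμm, hirr, ψ, hψ, hroot⟩ := exists_field_of_prime hy hp2
    (free_prime_dvd hm hF hy hfree) (x := (y : SL(4, F))) (Subgroup.orderOf_coe y)
  haveI := Fact.mk hirr
  haveI : Fintype (Cfsg.Sz F m) := Fintype.ofFinite _
  set Y := (Finset.univ.filter fun n : Cfsg.Sz F m => n ∈ N).image fun n => n * y * n⁻¹ with hY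
  have hmemC : ∀ u ∈ Y, (u : SL(4, F)) ∈ Subgroup.centralizer ({(y : SL(4, F))} : Set SL(4, F)) ∧
      IsConj (u : SL(4, F)) y := by
    intro u hu
    simp only [hY, Finset.mem_image, Finset.mem_filter, Finset.mem_univ, true_and] at hu
    obtain ⟨n, hn, rfl⟩ := hu
    have hc : n * y * n⁻¹ ∈ Subgroup.centralizer ({y} : Set (Cfsg.Sz F m)) :=
      hTy ▸ (Subgroup.mem_normalizer_iff.1 hn y).1 hyT
    refine ⟨Subgroup.mem_centralizer_singleton_iff.2 ?_, ?_⟩
    · exact_mod_cast congrArg Subtype.val (Subgroup.mem_centralizer_singleton_iff.1 hc)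
    refine isConj_iff.2 ⟨((n : SL(4, F)))⁻¹, ?_⟩
    simp [mul_assoc]
  have hYcard : Y.card ≤ 4 := by
    calc Y.card = Y.attach.card := Finset.card_attach.symm
      _ ≤ (μ.map (AdjoinRoot.of μ)).roots.toFinset.card := by
        refine Finset.card_le_card_of_injOn (fun u => ψ ⟨(u.1 : SL(4, F)), (hmemC u.1 u.2).1⟩) ?_ ?_
        · intro u _
          simp only [Finset.mem_coe, Multiset.mem_toFinset]
          exact (Polynomial.mem_roots (Polynomial.map_ne_zero hμm.ne_zero)).2 (hroot _ (hmemC u.1 u.2).2)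
        · intro u _ v _ h
          exact Subtype.ext (Subtype.ext (congrArg Subtype.val (hψ h) :))
      _ ≤ _ := (Multiset.toFinset_card_le _).trans ((Polynomial.card_roots' _).trans
        (Polynomial.natDegree_map_le.trans hμ4))
  have hfib : (Finset.univ.filter fun n : Cfsg.Sz F m => n ∈ N).card ≤ Nat.card T * Y.card := by
    refine Finset.card_le_mul_card_image _ _ fun u hu => ?_
    simp only [hY, Finset.mem_image, Finset.mem_filter, Finset.mem_univ, true_and] at hu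
    obtain ⟨n₀, -, rfl⟩ := hu
    rw [Nat.card_eq_fintype_card, Fintype.card_subtype]
    refine Finset.card_le_card_of_injOn (fun n => n₀⁻¹ * n) ?_ (fun a _ b _ h => mul_left_cancel h)
    intro n hn
    simp only [Finset.mem_coe, Finset.mem_filter, Finset.mem_univ, true_and] at hn ⊢
    rw [hTy, Subgroup.mem_centralizer_singleton_iff]
    calc n₀⁻¹ * n * y = n₀⁻¹ * (n * y * n⁻¹) * n := by group
      _ = _ := by rw [hn.2]; group
  rw [← Fintype.card_subtype, ← Nat.card_eq_fintype_card, hk] at hfib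
  exact (Nat.le_of_mul_le_mul_left hfib Nat.card_pos).trans hYcard

theorem two_free_count [Fintype (Cfsg.Sz F m)] [DecidablePred (Free : Cfsg.Sz F m → Prop)] :
    2 * (Finset.univ.filter fun g : Cfsg.Sz F m => Free g).card +
      Fintype.card F ^ 2 * (Fintype.card F ^ 2 - 1) = Nat.card (Cfsg.Sz F m) := by
  classical
  haveI : Fintype (suzukiOvoid F m) := Fintype.ofFinite _
  haveI : MulAction.IsPretransitive (Cfsg.Sz F m) (suzukiOvoid F m) := by
    haveI := two_trans hF (m := m)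
    exact MulAction.isPretransitive_of_is_two_pretransitive
  set Gc := Nat.card (Cfsg.Sz F m)
  set n := Fintype.card (suzukiOvoid F m) with hn
  have hn' : n = Fintype.card F ^ 2 + 1 := by rw [hn, ← Nat.card_eq_fintype_card, card_omega hF]
  let fx : Cfsg.Sz F m → ℕ := fun g => (Finset.univ.filter fun a : suzukiOvoid F m => g • a = a).card
  have h1 : ∑ g, fx g = Gc := by
    simp only [fx, Finset.card_filter]
    rw [Finset.sum_comm, ← mul_left_inj' (show n ≠ 0 by omega), Finset.sum_mul,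
      Finset.sum_congr rfl fun a _ => ?_, Finset.sum_const, smul_eq_mul, Finset.card_univ, ← hn, mul_comm]
    rw [← Finset.card_filter, ← Fintype.card_subtype, ← Nat.card_eq_fintype_card]
    have h := Subgroup.card_mul_index (MulAction.stabilizer (Cfsg.Sz F m) a)
    rwa [MulAction.index_stabilizer_of_transitive, Nat.card_eq_fintype_card (α := suzukiOvoid F m), ← hn] at h
  have hpair : ∀ a b : suzukiOvoid F m, a ≠ b →
      (Finset.univ.filter fun g : Cfsg.Sz F m => g • a = a ∧ g • b = b).card = Fintype.card F - 1 := by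
    intro a b hab
    obtain ⟨c, hca, hcb⟩ := exists_conj_pair hF hab
    rw [← Fintype.card_subtype, ← Fintype.card_units]
    refine (Fintype.card_congr (Equiv.ofBijective
      (fun k : Fˣ => (⟨c * HS hF k * c⁻¹, ?_, ?_⟩ : {g : Cfsg.Sz F m // g • a = a ∧ g • b = b})) ⟨?_, ?_⟩)).symm
    · rw [mul_smul, ← hca, inv_smul_smul, mul_smul]
      congr 1
      exact Subtype.ext (H_inf k)
    · rw [mul_smul, ← hcb, inv_smul_smul, mul_smul]
      congr 1
      exact Subtype.ext (H_zero_pt (isSuzField hF) k)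
    · intro k k' h
      exact HS_injective hF (mul_left_cancel (mul_right_cancel (congrArg Subtype.val h)))
    · rintro ⟨g, hga, hgb⟩
      obtain ⟨k, hk⟩ := stab_pair_le hm hF c hca hcb hga hgb
      exact ⟨k, Subtype.ext hk.symm⟩
  have h2 : ∑ g, fx g * fx g = 2 * Gc := by
    have hsum : ∑ g, fx g * fx g = ∑ a : suzukiOvoid F m, ∑ b : suzukiOvoid F m,
        (Finset.univ.filter fun g : Cfsg.Sz F m => g • a = a ∧ g • b = b).card := by
      simp only [fx, Finset.card_filter, Finset.sum_mul, Finset.mul_sum]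
      rw [Finset.sum_comm]
      refine Finset.sum_congr rfl fun a _ => ?_
      rw [Finset.sum_comm]
      refine Finset.sum_congr rfl fun b _ => Finset.sum_congr rfl fun g _ => ?_
      by_cases ha : g • a = a <;> by_cases hb : g • b = b <;> simp [ha, hb]
    rw [hsum, two_mul]
    nth_rewrite 1 [← h1]
    simp only [fx, Finset.card_filter]
    conv_rhs => arg 1; rw [Finset.sum_comm]
    have e : Gc = ∑ _a : suzukiOvoid F m, ((n - 1) * (Fintype.card F - 1)) := by
      rw [Finset.sum_const, smul_eq_mul, Finset.card_univ, ← hn, hn', Nat.add_sub_cancel]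
      show Gc = _
      rw [show Gc = _ from card_group hm hF]
      ring
    rw [e, ← Finset.sum_add_distrib]
    refine Finset.sum_congr rfl fun a _ => ?_
    rw [← Finset.add_sum_erase Finset.univ _ (Finset.mem_univ a)]
    congr 1
    · exact Finset.sum_congr rfl fun g _ => by simp only [and_self]
    · rw [Finset.sum_congr rfl fun b hb => ?_, Finset.sum_const, smul_eq_mul,
        Finset.card_erase_of_mem (Finset.mem_univ a), Finset.card_univ]
      rw [← Finset.card_filter]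
      exact hpair a b (Finset.ne_of_mem_erase hb).symm
  have key : ∀ g : Cfsg.Sz F m, g ≠ 1 →
      2 * (if Free g then 1 else 0) + 3 * fx g = 2 + fx g * fx g := by
    intro g hg
    have hle : fx g ≤ 2 := by
      by_contra h
      obtain ⟨a, b, c, ha, hb, hc, hab, hac, hbc⟩ := Finset.two_lt_card_iff.1 (not_le.1 h)
      simp only [Finset.mem_filter, Finset.mem_univ, true_and] at ha hb hc
      exact hg (three_fix hm hF g a b c hab hbc hac ha hb hc)
    have hz : Free g ↔ fx g = 0 := by simp [Free, fx, Finset.filter_eq_empty_iff]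
    by_cases hf : Free g
    · rw [if_pos hf, hz.1 hf]
    · have h0 : fx g ≠ 0 := fun h => hf (hz.2 h)
      rw [if_neg hf]
      rcases (show fx g = 1 ∨ fx g = 2 by omega) with e | e <;> rw [e]
  have hone : fx 1 = n := by simp [fx, hn]
  have hfree1 : ¬ Free (1 : Cfsg.Sz F m) := fun h => h ⟨_, ovoid_inf⟩ (one_smul _ _)
  have hs := Finset.sum_congr rfl (s₁ := (Finset.univ : Finset (Cfsg.Sz F m)).erase 1)
    fun g hg => key g (Finset.ne_of_mem_erase hg)
  simp only [Finset.sum_add_distrib, ← Finset.mul_sum, Finset.sum_const, smul_eq_mul,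
    Finset.card_erase_of_mem (Finset.mem_univ (1 : Cfsg.Sz F m)), Finset.card_univ] at hs
  have e1 := Finset.add_sum_erase Finset.univ (fun g : Cfsg.Sz F m => if Free g then (1:ℕ) else 0) (Finset.mem_univ 1)
  have e2 := Finset.add_sum_erase Finset.univ fx (Finset.mem_univ 1)
  have e3 := Finset.add_sum_erase Finset.univ (fun g => fx g * fx g) (Finset.mem_univ 1)
  simp only [hone, if_neg hfree1, zero_add] at e1 e2 e3
  rw [h1] at e2
  rw [h2] at e3
  rw [Finset.card_filter]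
  have hG : Fintype.card (Cfsg.Sz F m) = Gc := (Nat.card_eq_fintype_card).symm
  rw [hG, e1] at hs
  have hG1 : 1 ≤ Gc := Nat.card_pos
  have hq : Fintype.card F ^ 2 = n - 1 := by omega
  rw [hq]
  have hn2 : 2 ≤ n := by
    have : 1 ≤ Fintype.card F ^ 2 := Nat.one_le_pow _ _ Fintype.card_pos
    omega
  obtain ⟨n', hn''⟩ := Nat.exists_eq_add_of_le hn2
  rw [hn''] at e2 e3 ⊢
  rw [show 2 + n' - 1 = n' + 1 by omega, show n' + 1 - 1 = n' by omega]
  obtain ⟨g', hg'⟩ : ∃ g', Gc = g' + 1 := ⟨Gc - 1, by omega⟩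
  rw [hg', Nat.add_sub_cancel] at hs
  nlinarith [e2, e3, hs, hg']

theorem torus_sylow {T : Subgroup (Cfsg.Sz F m)} (hT : IsTorus T) {z : Cfsg.Sz F m} {r : ℕ}
    [Fact r.Prime] (hz : z ∈ T) (hzo : orderOf z = r) :
    ∃ S : Sylow r (Cfsg.Sz F m), z ∈ S ∧ (S : Subgroup (Cfsg.Sz F m)) ≤ T := by
  have hz1 : z ≠ 1 := fun h => by rw [h, orderOf_one] at hzo; exact (Fact.out : r.Prime).ne_one hzo.symm
  obtain ⟨S, hS⟩ := IsPGroup.exists_le_sylow (P := Subgroup.zpowers z) (p := r)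
    (IsPGroup.of_card (n := 1) (by rw [Nat.card_zpowers, hzo, pow_one]))
  have hzS : z ∈ S := hS (Subgroup.mem_zpowers z)
  have hr2 : r ≠ 2 := by
    have h1 : r ∣ Nat.card T := hzo ▸ Subgroup.orderOf_dvd_natCard _ hz
    exact (prime_of_dvd_n hF Fact.out (h1.trans (torus_card_dvd hm hF hT))).1
  haveI := isCyclic_odd_pgroup hm hF hr2 S.2
  refine ⟨S, hzS, fun g hg => ?_⟩
  rw [← (torus_elt hm hF hT hz hz1).2]
  letI := IsCyclic.commGroup (α := ↥(S : Subgroup (Cfsg.Sz F m)))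
  exact Subgroup.mem_centralizer_singleton_iff.2
    (congrArg Subtype.val (mul_comm (⟨g, hg⟩ : ↥(S : Subgroup (Cfsg.Sz F m))) ⟨z, hzS⟩))

/-- tori sharing a prime are conjugate -/
theorem torus_conj {T T' : Subgroup (Cfsg.Sz F m)} (hT : IsTorus T) (hT' : IsTorus T') {r : ℕ}
    (hr : r.Prime) (h : r ∣ Nat.card T) (h' : r ∣ Nat.card T') :
    ∃ c : Cfsg.Sz F m, T.map (MulAut.conj c).toMonoidHom = T' := by
  classical
  haveI := Fact.mk hr
  obtain ⟨z, hz⟩ := exists_prime_orderOf_dvd_card' (G := T) r h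
  obtain ⟨z', hz'⟩ := exists_prime_orderOf_dvd_card' (G := T') r h'
  rw [← Subgroup.orderOf_coe] at hz hz'
  obtain ⟨S, hzS, hST⟩ := torus_sylow hm hF hT z.2 hz
  obtain ⟨S', -, hST'⟩ := torus_sylow hm hF hT' z'.2 hz'
  obtain ⟨c, hc⟩ := MulAction.exists_smul_eq (Cfsg.Sz F m) S S'
  refine ⟨c, ?_⟩
  have hmem : c * (z : Cfsg.Sz F m) * c⁻¹ ∈ (S' : Subgroup (Cfsg.Sz F m)) := by
    rw [← hc, Sylow.coe_subgroup_smul, Subgroup.mem_pointwise_smul_iff_inv_smul_mem]
    simp [MulAut.smul_def, mul_assoc]; exact hzS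
  have hz1 : (z : Cfsg.Sz F m) ≠ 1 := fun e => by rw [e, orderOf_one] at hz; exact hr.ne_one hz.symm
  have h2 := (torus_elt hm hF hT' (hST' hmem) (fun e => hz1 (conj_eq_one_iff.1 e))).2
  rw [centralizer_conj, (torus_elt hm hF hT z.2 hz1).2] at h2
  exact h2

omit hm hF in
theorem dset_conj {T T' : Subgroup (Cfsg.Sz F m)} {c : Cfsg.Sz F m}
    (h : T.map (MulAut.conj c).toMonoidHom = T') : Dset T' ⊆ Dset T := by
  subst h
  rintro g ⟨d, u, ⟨v, hv, rfl⟩, hu1, rfl⟩
  refine ⟨d * c, v, hv, fun e => hu1 (by rw [e, map_one]), ?_⟩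
  show d * c * v * (d * c)⁻¹ = d * (c * v * c⁻¹) * d⁻¹
  group

theorem dset_meet {T T' : Subgroup (Cfsg.Sz F m)} (hT : IsTorus T) (hT' : IsTorus T')
    {g : Cfsg.Sz F m} (h : g ∈ Dset T) (h' : g ∈ Dset T') :
    ∃ c : Cfsg.Sz F m, T.map (MulAut.conj c).toMonoidHom = T' := by
  obtain ⟨c, u, hu, hu1, rfl⟩ := h
  obtain ⟨d, v, hv, hv1, e⟩ := h'
  refine ⟨d⁻¹ * c, ?_⟩
  have e' : (d⁻¹ * c) * u * (d⁻¹ * c)⁻¹ = v := by
    calc (d⁻¹ * c) * u * (d⁻¹ * c)⁻¹ = d⁻¹ * (c * u * c⁻¹) * d := by group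
      _ = _ := by rw [← e]; group
  rw [← (torus_elt hm hF hT hu hu1).2, ← centralizer_conj, e', (torus_elt hm hF hT' hv hv1).2]

/-- The two tori. -/
theorem exists_tori {k : ℕ}
    (hk : k = 2 ^ (2 * m + 1) + 2 ^ (m + 1) + 1 ∨ k = 2 ^ (2 * m + 1) - 2 ^ (m + 1) + 1) :
    ∃ T : Subgroup (Cfsg.Sz F m), IsTorus T ∧ Nat.card T = k ∧
      Nat.card (Subgroup.normalizer (T : Set (Cfsg.Sz F m))) = 4 * k := by
  classical
  haveI : Fintype (Cfsg.Sz F m) := Fintype.ofFinite _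
  set Q := Fintype.card F with hQ
  set n := Q ^ 2 + 1 with hn
  set Gc := Nat.card (Cfsg.Sz F m) with hGc
  set Fr := Finset.univ.filter fun g : Cfsg.Sz F m => Free g with hFr
  have hq8 : 8 ≤ Q := by
    rw [hF]
    calc 8 = 2 ^ 3 := rfl
      _ ≤ _ := Nat.pow_le_pow_right (by norm_num) (by omega)
  have hGeq : Gc = Q ^ 2 * n * (Q - 1) := card_group hm hF
  have hX : 2 * Fr.card + Q ^ 2 * (Q ^ 2 - 1) = Gc := two_free_count hm hF
  have hGpos : 0 < Gc := Nat.card_pos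
  -- every prime of `n` gives a torus
  have hex : ∀ r : ℕ, r.Prime → r ∣ n → ∃ T : Subgroup (Cfsg.Sz F m), IsTorus T ∧ r ∣ Nat.card T := by
    intro r hr hd'
    haveI := Fact.mk hr
    obtain ⟨y, hy⟩ := exists_prime_orderOf_dvd_card' (G := Cfsg.Sz F m) r
      ((hd'.trans (dvd_mul_left n (Q ^ 2))).trans ((dvd_mul_right _ _).trans hGeq.symm.dvd))
    have hfy := prime_free hm hF hr hy hd'
    refine ⟨Subgroup.centralizer {y}, ⟨y, hy.symm ▸ hr, hfy, rfl⟩, ?_⟩
    rw [← hy]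
    exact Subgroup.orderOf_dvd_natCard _ (Subgroup.mem_centralizer_singleton_iff.2 rfl)
  have hfull : ∀ (T : Subgroup (Cfsg.Sz F m)), IsTorus T → ∀ r v : ℕ, r.Prime → r ∣ Nat.card T →
      r ^ v ∣ n → r ^ v ∣ Nat.card T := by
    intro T hT r v hr hrT hv
    haveI := Fact.mk hr
    obtain ⟨z, hz⟩ := exists_prime_orderOf_dvd_card' (G := T) r hrT
    rw [← Subgroup.orderOf_coe] at hz
    obtain ⟨S, -, hST⟩ := torus_sylow hm hF hT z.2 hz
    exact (S.pow_dvd_card_of_pow_dvd_card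
      ((hv.trans (dvd_mul_left n (Q ^ 2))).trans ((dvd_mul_right _ _).trans hGeq.symm.dvd))).trans
      (Subgroup.card_dvd_of_le hST)
  have hfive : ∀ T : Subgroup (Cfsg.Sz F m), IsTorus T → 5 ≤ Nat.card T := by
    intro T hT
    obtain ⟨y, hy, hfree, rfl⟩ := id hT
    have h1 := free_prime_dvd hm hF hy hfree
    have h2 := prime_of_dvd_n hF hy h1
    have h3 : 5 ≤ orderOf y := by
      have := hy.two_le
      by_contra h
      interval_cases orderOf y <;> first | omega | exact absurd hy (by norm_num)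
    exact h3.trans (Nat.le_of_dvd Nat.card_pos
      (Subgroup.orderOf_dvd_natCard _ (Subgroup.mem_centralizer_singleton_iff.2 rfl)))
  -- the sizes of the classes
  have hd : ∀ T : Subgroup (Cfsg.Sz F m), IsTorus T → ∃ j : ℕ, (j = 1 ∨ j = 2 ∨ j = 4) ∧
      Nat.card (Subgroup.normalizer (T : Set (Cfsg.Sz F m))) = j * Nat.card T ∧
      (Finset.univ.filter fun g => g ∈ Dset T).card * (j * Nat.card T) = Gc * (Nat.card T - 1) := by
    intro T hT
    obtain ⟨j, hj, hN⟩ := normalizer_index hm hF hT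
    refine ⟨j, hj, hN, ?_⟩
    rw [← hN, ← card_Dset hm hF hT, ← Fintype.card_subtype, ← Nat.card_eq_fintype_card]
  have hsub : ∀ T : Subgroup (Cfsg.Sz F m), IsTorus T →
      (Finset.univ.filter fun g => g ∈ Dset T) ⊆ Fr := by
    intro T hT g hg
    simp only [hFr, Finset.mem_filter, Finset.mem_univ, true_and] at hg ⊢
    obtain ⟨c, u, hu, hu1, rfl⟩ := hg
    intro a ha
    refine (torus_elt hm hF hT hu hu1).1 (c⁻¹ • a) ?_
    rw [mul_smul, mul_smul] at ha
    exact eq_inv_smul_iff.2 ha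
  have hlow : ∀ T : Subgroup (Cfsg.Sz F m), IsTorus T →
      Gc ≤ 5 * (Finset.univ.filter fun g => g ∈ Dset T).card := by
    intro T hT
    obtain ⟨j, hj, -, hc⟩ := hd T hT
    have h5 := hfive T hT
    set t := Nat.card T
    set d := (Finset.univ.filter fun g => g ∈ Dset T).card
    obtain ⟨t', ht'⟩ : ∃ t', t = t' + 5 := ⟨t - 5, by omega⟩
    rw [ht', show t' + 5 - 1 = t' + 4 by omega] at hc
    rcases hj with rfl | rfl | rfl <;> nlinarith
  have hdisj : ∀ T T' : Subgroup (Cfsg.Sz F m), IsTorus T → IsTorus T' →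
      (∃ r : ℕ, r.Prime ∧ r ∣ Nat.card T' ∧ ¬ r ∣ Nat.card T) →
      Disjoint (Finset.univ.filter fun g => g ∈ Dset T) (Finset.univ.filter fun g => g ∈ Dset T') := by
    intro T T' hT hT' hr
    rw [Finset.disjoint_left]
    intro g hg hg'
    simp only [Finset.mem_filter, Finset.mem_univ, true_and] at hg hg'
    obtain ⟨c, hc⟩ := dset_meet hm hF hT hT' hg hg'
    obtain ⟨r, -, h1, h2⟩ := hr
    rw [← hc, Subgroup.card_map_of_injective (MulAut.conj c).injective] at h1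
    exact h2 h1
  -- the first torus
  obtain ⟨r₁, hr₁, hr₁n⟩ := Nat.exists_prime_and_dvd (show n ≠ 1 by nlinarith)
  obtain ⟨T₁, hT₁, hr₁T⟩ := hex r₁ hr₁ hr₁n
  obtain ⟨j₁, hj₁, hN₁, hc₁⟩ := hd T₁ hT₁
  set t₁ := Nat.card T₁ with ht₁
  set d₁ := (Finset.univ.filter fun g => g ∈ Dset T₁).card with hd₁
  have ht₁n : t₁ ∣ n := torus_card_dvd hm hF hT₁
  have hcover : ∀ (Ts : List (Subgroup (Cfsg.Sz F m))), (∀ T ∈ Ts, IsTorus T) →
      (∀ r : ℕ, r.Prime → r ∣ n → ∃ T ∈ Ts, r ∣ Nat.card T) →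
      ∀ g : Cfsg.Sz F m, Free g → ∃ T ∈ Ts, g ∈ Dset T := by
    intro Ts hTs hall g hg
    have hg1 : g ≠ 1 := fun h => hg ⟨_, ovoid_inf⟩ (by rw [h, one_smul])
    have hTg := free_centralizer hm hF hg
    obtain ⟨r, hr, hrd⟩ := Nat.exists_prime_and_dvd (show Nat.card ↥(Subgroup.centralizer ({g} : Set (Cfsg.Sz F m))) ≠ 1 by
      have := hfive _ hTg; omega)
    obtain ⟨T, hT, hrT⟩ := hall r hr (hrd.trans (torus_card_dvd hm hF hTg))
    obtain ⟨c, hc⟩ := torus_conj hm hF (hTs T hT) hTg hr hrT hrd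
    exact ⟨T, hT, dset_conj hc ⟨1, g, Subgroup.mem_centralizer_singleton_iff.2 rfl, hg1, by group⟩⟩
  obtain ⟨r₂, hr₂, hr₂n, hr₂T⟩ : ∃ r, r.Prime ∧ r ∣ n ∧ ¬ r ∣ t₁ := by
    by_contra hall
    push Not at hall
    have hn1 : n ∣ t₁ := by
      rw [Nat.dvd_iff_prime_pow_dvd_dvd]
      intro r v hr hv
      rcases Nat.eq_zero_or_pos v with h0 | h0
      · simp [h0]
      · exact hfull T₁ hT₁ r v hr (hall r hr ((dvd_pow_self r h0.ne').trans hv)) hv
    have htn : t₁ = n := Nat.dvd_antisymm ht₁n hn1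
    have hall' : Fr = Finset.univ.filter fun g => g ∈ Dset T₁ := by
      refine Finset.Subset.antisymm (fun g hg => ?_) (hsub T₁ hT₁)
      simp only [hFr, Finset.mem_filter, Finset.mem_univ, true_and] at hg ⊢
      obtain ⟨T, hT, hgT⟩ := hcover [T₁] (by simp [hT₁])
        (fun r hr hrn => ⟨T₁, by simp, hall r hr hrn⟩) g hg
      rw [List.mem_singleton] at hT
      exact hT ▸ hgT
    rw [hall', ← hd₁] at hX
    rw [htn, show n - 1 = Q ^ 2 by omega, hGeq, hn] at hc₁
    rw [hGeq, hn] at hX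
    have h8 : (8 : ℤ) ≤ Q := by exact_mod_cast hq8
    have hcz := congrArg (Nat.cast (R := ℤ)) hc₁
    have hXz := congrArg (Nat.cast (R := ℤ)) hX
    push_cast [Nat.cast_sub (show 1 ≤ Q by omega), Nat.cast_sub (Nat.one_le_pow 2 Q (by omega))] at hcz hXz
    have hdj : (d₁ : ℤ) * j₁ = (Q : ℤ) ^ 2 * (Q - 1) * Q ^ 2 :=
      mul_right_cancel₀ (show ((Q : ℤ) ^ 2 + 1) ≠ 0 by positivity) (by linear_combination hcz)
    have h0 : ((Q : ℤ) ^ 2 * (Q - 1)) * (2 * Q ^ 2 + j₁ * (Q + 1) - j₁ * (Q ^ 2 + 1)) = 0 := by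
      linear_combination (j₁ : ℤ) * hXz - 2 * hdj
    rcases mul_eq_zero.1 h0 with h | h
    · nlinarith
    · rcases hj₁ with rfl | rfl | rfl <;> push_cast at h <;> nlinarith
  obtain ⟨T₂, hT₂, hr₂T₂⟩ := hex r₂ hr₂ hr₂n
  obtain ⟨j₂, hj₂, hN₂, hc₂⟩ := hd T₂ hT₂
  set t₂ := Nat.card T₂ with ht₂
  set d₂ := (Finset.univ.filter fun g => g ∈ Dset T₂).card with hd₂
  have ht₂n : t₂ ∣ n := torus_card_dvd hm hF hT₂
  have hno : ∀ r : ℕ, r.Prime → r ∣ t₁ → ¬ r ∣ t₂ := by
    intro r hr h1 h2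
    obtain ⟨c, hc⟩ := torus_conj hm hF hT₁ hT₂ hr h1 h2
    rw [ht₂, ← hc, Subgroup.card_map_of_injective (MulAut.conj c).injective] at hr₂T₂
    exact hr₂T hr₂T₂
  have h12 := hdisj T₁ T₂ hT₁ hT₂ ⟨r₂, hr₂, hr₂T₂, hr₂T⟩
  have hle12 : d₁ + d₂ ≤ Fr.card := by
    rw [hd₁, hd₂, ← Finset.card_union_of_disjoint h12]
    exact Finset.card_le_card (Finset.union_subset (hsub T₁ hT₁) (hsub T₂ hT₂))
  have hpos : 0 < Q ^ 2 * (Q ^ 2 - 1) := Nat.mul_pos (pow_pos (by omega) 2)
    (by have : 64 ≤ Q ^ 2 := by nlinarith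
        omega)
  have hl₁ := hlow T₁ hT₁
  have hl₂ := hlow T₂ hT₂
  rw [← hd₁] at hl₁
  rw [← hd₂] at hl₂
  have h51 := hfive T₁ hT₁
  have h52 := hfive T₂ hT₂
  rw [← ht₁] at h51
  rw [← ht₂] at h52
  obtain ⟨u₁, hu₁⟩ : ∃ u, t₁ = u + 5 := ⟨t₁ - 5, by omega⟩
  obtain ⟨u₂, hu₂⟩ : ∃ u, t₂ = u + 5 := ⟨t₂ - 5, by omega⟩
  rw [hu₁, show u₁ + 5 - 1 = u₁ + 4 by omega] at hc₁
  rw [hu₂, show u₂ + 5 - 1 = u₂ + 4 by omega] at hc₂
  obtain rfl : j₁ = 4 := by rcases hj₁ with rfl | rfl | rfl <;> nlinarith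
  obtain rfl : j₂ = 4 := by rcases hj₂ with rfl | rfl | rfl <;> nlinarith
  have hprimes : ∀ r : ℕ, r.Prime → r ∣ n → r ∣ t₁ ∨ r ∣ t₂ := by
    intro r hr hrn
    by_contra h
    push Not at h
    obtain ⟨T₃, hT₃, hrT₃⟩ := hex r hr hrn
    have h13 := hdisj T₁ T₃ hT₁ hT₃ ⟨r, hr, hrT₃, h.1⟩
    have h23 := hdisj T₂ T₃ hT₂ hT₃ ⟨r, hr, hrT₃, h.2⟩
    have hl₃ := hlow T₃ hT₃
    have hle : d₁ + d₂ + (Finset.univ.filter fun g => g ∈ Dset T₃).card ≤ Fr.card := by
      rw [hd₁, hd₂, ← Finset.card_union_of_disjoint h12,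
        ← Finset.card_union_of_disjoint (Finset.disjoint_union_left.2 ⟨h13, h23⟩)]
      exact Finset.card_le_card (Finset.union_subset
        (Finset.union_subset (hsub T₁ hT₁) (hsub T₂ hT₂)) (hsub T₃ hT₃))
    omega
  have heq12 : d₁ + d₂ = Fr.card := by
    refine le_antisymm hle12 ?_
    rw [hd₁, hd₂, ← Finset.card_union_of_disjoint h12]
    refine Finset.card_le_card fun g hg => ?_
    simp only [hFr, Finset.mem_union, Finset.mem_filter, Finset.mem_univ, true_and] at hg ⊢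
    obtain ⟨T, hT, hgT⟩ := hcover [T₁, T₂] (by simp [hT₁, hT₂])
      (fun r hr hrn => by
        rcases hprimes r hr hrn with h | h
        exacts [⟨T₁, by simp, h⟩, ⟨T₂, by simp, h⟩]) g hg
    simp at hT
    rcases hT with rfl | rfl
    exacts [Or.inl hgT, Or.inr hgT]
  have hcop : Nat.Coprime t₁ t₂ := Nat.coprime_of_dvd fun r hr h1 h2 => hno r hr h1 h2
  have hprod : t₁ * t₂ = n := by
    refine Nat.dvd_antisymm (hcop.mul_dvd_of_dvd_of_dvd ht₁n ht₂n) ?_
    rw [Nat.dvd_iff_prime_pow_dvd_dvd]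
    intro r v hr hv
    rcases Nat.eq_zero_or_pos v with h0 | h0
    · simp [h0]
    rcases hprimes r hr ((dvd_pow_self r h0.ne').trans hv) with h | h
    · exact (hfull T₁ hT₁ r v hr h hv).trans (dvd_mul_right _ _)
    · exact (hfull T₂ hT₂ r v hr h hv).trans (dvd_mul_left _ _)
  -- arithmetic over the integers
  have hz : ((t₁ : ℤ) + t₂) = 2 * ((Q : ℤ) + 1) := by
    zify at hc₁ hc₂ heq12
    have hu₁' : (t₁ : ℤ) = u₁ + 5 := by exact_mod_cast hu₁
    have hu₂' : (t₂ : ℤ) = u₂ + 5 := by exact_mod_cast hu₂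
    have hn' : (t₁ : ℤ) * t₂ = (Q : ℤ) ^ 2 + 1 := by exact_mod_cast hprod
    have hX' : 2 * (Fr.card : ℤ) + (Q : ℤ) ^ 2 * ((Q : ℤ) ^ 2 - 1) = Gc := by
      have h := congrArg (Nat.cast (R := ℤ)) hX
      push_cast [Nat.cast_sub (Nat.one_le_pow 2 Q (by omega))] at h
      exact h
    have hG' : (Gc : ℤ) = (Q : ℤ) ^ 2 * ((Q : ℤ) ^ 2 + 1) * ((Q : ℤ) - 1) := by
      rw [hGeq, hn]
      push_cast [Nat.cast_sub (show 1 ≤ Q by omega)]
      ring
    have e1 : (d₁ : ℤ) * (4 * (t₁ : ℤ)) = (Gc : ℤ) * ((t₁ : ℤ) - 1) := by rw [hu₁']; linarith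
    have e2 : (d₂ : ℤ) * (4 * (t₂ : ℤ)) = (Gc : ℤ) * ((t₂ : ℤ) - 1) := by rw [hu₂']; linarith
    have e3 : (Gc : ℤ) * ((t₁ : ℤ) + t₂) = 2 * ((Q : ℤ) ^ 2 + 1) * ((Q : ℤ) ^ 2 * ((Q : ℤ) ^ 2 - 1)) := by
      linear_combination (t₂ : ℤ) * e1 + (t₁ : ℤ) * e2 - 4 * (t₁ : ℤ) * t₂ * heq12 -
        2 * (t₁ : ℤ) * t₂ * hX' + (2 * (Q : ℤ) ^ 2 * ((Q : ℤ) ^ 2 - 1)) * hn'
    have hne : (Q : ℤ) ^ 2 * ((Q : ℤ) ^ 2 + 1) * ((Q : ℤ) - 1) ≠ 0 := by
      have : (8 : ℤ) ≤ Q := by exact_mod_cast hq8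
      refine mul_ne_zero (mul_ne_zero ?_ ?_) ?_
      · exact pow_ne_zero _ (by omega)
      · positivity
      · omega
    apply mul_left_cancel₀ hne
    rw [← hG', e3, hG']
    ring
  have hroot : ((t₁ : ℤ) - ((Q : ℤ) + 1)) ^ 2 = ((2 ^ (m + 1) : ℕ) : ℤ) ^ 2 := by
    have hn' : (t₁ : ℤ) * t₂ = (Q : ℤ) ^ 2 + 1 := by exact_mod_cast hprod
    have hQ2 : (((2 ^ (m + 1) : ℕ) : ℤ)) ^ 2 = 2 * (Q : ℤ) := by
      rw [hF]
      push_cast
      rw [← pow_mul, ← pow_succ']
      congr 1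
      omega
    rw [hQ2]
    linear_combination (t₁ : ℤ) * hz - hn'
  have hk' : (t₁ = k ∨ t₂ = k) := by
    rw [← hF] at hk
    have hle : 2 ^ (m + 1) ≤ Q := by rw [hF]; exact Nat.pow_le_pow_right (by norm_num) (by omega)
    rcases sq_eq_sq_iff_eq_or_eq_neg.1 hroot with h | h <;> rcases hk with rfl | rfl <;> omega
  rcases hk' with h | h
  · exact ⟨T₁, hT₁, h, by rw [hN₁, h]⟩
  · exact ⟨T₂, hT₂, h, by rw [hN₂, h]⟩

end CfsgLib.Lie.Suz
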