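import Cfsg.Agent.Lib.Lie.Suz.Group

/-!
# Centralisers in the Suzuki group
-/

set_option autoImplicit false

namespace CfsgLib.Lie.Suz

open Cfsg
open scoped MatrixGroups Pointwise

variable {F : Type*} [Field F] [Fintype F]

/-- An element of prime order `p ∣ q² + 1` of `SL₄(q)` is self-centralising in a cyclic group. -/
theorem exists_field_of_prime {p : ℕ} (hp : p.Prime) (hp2 : p ≠ 2)
    (hpq : p ∣ Fintype.card F ^ 2 + 1) {x : SL(4, F)} (hx : orderOf x = p) :
    ∃ μ : Polynomial F, μ.natDegree ≤ 4 ∧ μ.Monic ∧ Irreducible μ ∧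
      ∃ ψ : ↥(Subgroup.centralizer ({x} : Set SL(4, F))) →* AdjoinRoot μ,
      Function.Injective ψ ∧ ∀ y : ↥(Subgroup.centralizer ({x} : Set SL(4, F))), IsConj (y : SL(4, F)) x →
        (μ.map (AdjoinRoot.of μ)).IsRoot (ψ y) := by
  classical
  haveI := Fact.mk hp
  set q := Fintype.card F
  set M := (x : Matrix (Fin 4) (Fin 4) F)
  have hxp : M ^ p = 1 := by
    rw [← Matrix.SpecialLinearGroup.coe_pow, ← hx, pow_orderOf_eq_one, Matrix.SpecialLinearGroup.coe_one]
  have hint : IsIntegral F M := Matrix.isIntegral M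
  set μ := minpoly F M with hμ
  have hμd : μ ∣ Polynomial.X ^ p - 1 := minpoly.dvd F M (by simp [hxp])
  have hμ4 : μ.natDegree ≤ 4 := by
    refine (Polynomial.natDegree_le_of_dvd (Matrix.minpoly_dvd_charpoly M)
      (Matrix.charpoly_monic M).ne_zero).trans ?_
    rw [Matrix.charpoly_natDegree_eq_dim, Fintype.card_fin]
  have hqp : ¬ p ∣ q := fun h => by
    have h1 : p ∣ q ^ 2 := dvd_pow h two_ne_zero
    exact hp.not_dvd_one ((Nat.dvd_add_right h1).1 hpq)
  have hpF : (p : F) ≠ 0 := by
    intro h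
    obtain ⟨n, hr, hn⟩ := FiniteField.card F (ringChar F)
    have : ringChar F ∣ p := (ringChar.spec F p).1 h
    rw [(Nat.prime_dvd_prime_iff_eq hr hp).1 this] at hn
    refine hqp ?_
    rw [show q = _ from hn]
    exact dvd_pow_self p n.ne_zero
  have hsq : Squarefree μ :=
    ((Polynomial.X_pow_sub_one_separable_iff.2 hpF).of_dvd hμd).squarefree
  -- some irreducible factor has degree four
  obtain ⟨f, hf, hfμ, hf1⟩ : ∃ f : Polynomial F, Irreducible f ∧ f ∣ μ ∧
      ¬ Associated f (Polynomial.X - Polynomial.C 1) := by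
    by_contra h
    push Not at h
    have h1 : μ ∣ Polynomial.X - Polynomial.C 1 := by
      refine hsq.isRadical (μ.natDegree + 1) _ ?_
      obtain ⟨s, hs, hprod⟩ := WfDvdMonoid.exists_factors μ (minpoly.ne_zero hint)
      have hcard : s.card ≤ μ.natDegree + 1 := by
        have h2 : ∀ f ∈ s, Associated f (Polynomial.X - Polynomial.C 1) :=
          fun f hf => h f (hs f hf) ((Multiset.dvd_prod hf).trans hprod.dvd)
        have h3 : Associated s.prod ((Polynomial.X - Polynomial.C (1 : F)) ^ s.card) := by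
          rw [← Multiset.prod_replicate]
          refine Multiset.induction_on (p := fun t => (∀ f ∈ t, Associated f (Polynomial.X - Polynomial.C 1)) →
            Associated t.prod (Multiset.replicate t.card (Polynomial.X - Polynomial.C (1 : F))).prod) s
            (fun _ => by simp) (fun a t ih hat => ?_) h2
          rw [Multiset.prod_cons, Multiset.card_cons, Multiset.replicate_succ, Multiset.prod_cons]
          exact (hat a (Multiset.mem_cons_self a t)).mul_mul (ih fun f hf => hat f (Multiset.mem_cons_of_mem hf))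
        have h4 := Polynomial.natDegree_eq_of_degree_eq (Polynomial.degree_eq_degree_of_associated
          (h3.symm.trans hprod))
        rw [Polynomial.natDegree_pow, Polynomial.natDegree_X_sub_C, mul_one] at h4
        omega
      refine dvd_trans ?_ (pow_dvd_pow _ hcard)
      refine hprod.symm.dvd.trans ?_
      rw [← Multiset.prod_replicate]
      refine Multiset.induction_on (p := fun t => (∀ f ∈ t, f ∣ (Polynomial.X - Polynomial.C (1 : F))) →
        t.prod ∣ (Multiset.replicate t.card (Polynomial.X - Polynomial.C (1 : F))).prod) s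
        (fun _ => by simp) (fun a t ih hat => ?_)
        (fun f hf => (h f (hs f hf) ((Multiset.dvd_prod hf).trans hprod.dvd)).dvd)
      rw [Multiset.prod_cons, Multiset.card_cons, Multiset.replicate_succ, Multiset.prod_cons]
      exact mul_dvd_mul (hat a (Multiset.mem_cons_self a t)) (ih fun f hf => hat f (Multiset.mem_cons_of_mem hf))
    obtain ⟨c, hc⟩ := h1
    have h2 := congrArg (Polynomial.aeval M) hc
    simp only [map_mul, map_sub, Polynomial.aeval_X, Polynomial.aeval_C, map_one, hμ, minpoly.aeval,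
      zero_mul, sub_eq_zero] at h2
    have : x = 1 := Subtype.ext h2
    rw [this, orderOf_one] at hx
    exact hp.ne_one hx.symm
  haveI := Fact.mk hf
  have hd4 : 4 ≤ f.natDegree := by
    set L := AdjoinRoot f
    set α : L := AdjoinRoot.root f
    have hα : α ^ p = 1 := by
      obtain ⟨c, hc⟩ := hfμ.trans hμd
      have := congrArg (Polynomial.aeval α) hc
      rw [map_mul, show Polynomial.aeval α f = 0 by rw [AdjoinRoot.aeval_eq, AdjoinRoot.mk_self],
        zero_mul] at this
      simpa [sub_eq_zero] using this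
    have hα1 : α ≠ 1 := by
      intro h
      have h1 : AdjoinRoot.mk f (Polynomial.X - Polynomial.C 1) = 0 := by
        rw [map_sub, AdjoinRoot.mk_X, Polynomial.C_1, map_one]; exact sub_eq_zero.2 h
      exact hf1 (hf.associated_of_dvd (Polynomial.irreducible_X_sub_C 1) (AdjoinRoot.mk_eq_zero.1 h1))
    haveI : Module.Finite F L := (AdjoinRoot.powerBasis hf.ne_zero).finite
    haveI : Finite L := Module.finite_of_finite F
    haveI : Fintype L := Fintype.ofFinite _
    have hL : Fintype.card L = q ^ f.natDegree := by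
      rw [Module.card_fintype (AdjoinRoot.powerBasis hf.ne_zero).basis, AdjoinRoot.powerBasis_dim,
        Fintype.card_fin]
    have hdvd : p ∣ q ^ f.natDegree - 1 := by
      have h0 : α ≠ 0 := fun h => by rw [h, zero_pow hp.ne_zero] at hα; exact zero_ne_one hα
      have ho : orderOf (Units.mk0 α h0) = p :=
        orderOf_eq_prime (Units.ext (by simpa using hα)) (fun h => hα1 (congrArg Units.val h))
      have h1 : orderOf (Units.mk0 α h0) ∣ Fintype.card Lˣ := orderOf_dvd_card
      rwa [ho, Fintype.card_units, hL] at h1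
    have hpos := hf.natDegree_pos
    by_contra hlt
    rw [not_le] at hlt
    have hz : ((q : ZMod p)) ^ f.natDegree = 1 := by
      have h1 : ((q ^ f.natDegree - 1 : ℕ) : ZMod p) = 0 := (ZMod.natCast_eq_zero_iff _ _).2 hdvd
      rw [Nat.cast_sub (Nat.one_le_pow _ _ Fintype.card_pos), Nat.cast_pow, Nat.cast_one, sub_eq_zero] at h1
      exact h1
    have hm : ((q : ZMod p)) ^ 2 = -1 := by
      have h1 : ((q ^ 2 + 1 : ℕ) : ZMod p) = 0 := (ZMod.natCast_eq_zero_iff _ _).2 hpq
      push_cast at h1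
      exact eq_neg_of_add_eq_zero_left h1
    have h2 : (2 : ZMod p) ≠ 0 := by
      intro h
      exact hp2 ((Nat.prime_dvd_prime_iff_eq hp Nat.prime_two).1
        ((ZMod.natCast_eq_zero_iff 2 p).1 (by exact_mod_cast h)))
    interval_cases hd : f.natDegree
    · rw [pow_one] at hz
      rw [hz] at hm
      exact h2 (by linear_combination hm)
    · exact h2 (by linear_combination hm - hz)
    · have h3 : (q : ZMod p) = -1 := by linear_combination -hz + (q : ZMod p) * hm
      rw [h3] at hm
      exact h2 (by linear_combination hm)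
  have hmf : μ.natDegree = f.natDegree :=
    le_antisymm (hμ4.trans hd4) (Polynomial.natDegree_le_of_dvd hfμ (minpoly.ne_zero hint))
  have hμirr : Irreducible μ :=
    (Polynomial.associated_of_dvd_of_natDegree_le hfμ (minpoly.ne_zero hint) hmf.le).irreducible hf
  have hμ44 : μ.natDegree = 4 := le_antisymm hμ4 (hd4.trans hmf.ge)
  haveI := Fact.mk hμirr
  letI ψ : AdjoinRoot μ →+* Matrix (Fin 4) (Fin 4) F :=
    Ideal.Quotient.lift (Ideal.span {μ}) (Polynomial.aeval M).toRingHom fun a ha => by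
      obtain ⟨c, rfl⟩ := Ideal.mem_span_singleton.1 ha
      show Polynomial.aeval M (μ * c) = 0
      rw [map_mul, hμ, minpoly.aeval, zero_mul]
  have hψ : ∀ P : Polynomial F, ψ (AdjoinRoot.mk μ P) = Polynomial.aeval M P := fun P =>
    Ideal.Quotient.lift_mk _ _ _
  have hψi : Function.Injective ψ := ψ.injective
  -- every commuting matrix is a polynomial
  have hrange : ∀ A : Matrix (Fin 4) (Fin 4) F, A * M = M * A → ∃ a, ψ a = A := by
    intro A hA
    set v : Fin 4 → F := Pi.single 0 1
    have hinj : Function.Injective fun a : AdjoinRoot μ => (ψ a).mulVec v := by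
      intro a b hab
      by_contra hne
      have h0 : (ψ (a - b)).mulVec v = 0 := by
        rw [map_sub, Matrix.sub_mulVec, show (ψ a).mulVec v = (ψ b).mulVec v from hab, sub_self]
      have h1 : (ψ ((a - b)⁻¹) * ψ (a - b)).mulVec v = 0 := by
        rw [← Matrix.mulVec_mulVec, h0, Matrix.mulVec_zero]
      rw [← map_mul, inv_mul_cancel₀ (sub_ne_zero.2 hne), map_one, Matrix.one_mulVec] at h1
      simpa [v] using congrFun h1 0
    haveI : Module.Finite F (AdjoinRoot μ) := (AdjoinRoot.powerBasis hμirr.ne_zero).finite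
    haveI : Finite (AdjoinRoot μ) := Module.finite_of_finite F
    haveI : Fintype (AdjoinRoot μ) := Fintype.ofFinite _
    have hsurj := ((Fintype.bijective_iff_injective_and_card _).2 ⟨hinj, by
      rw [Module.card_fintype (AdjoinRoot.powerBasis hμirr.ne_zero).basis, AdjoinRoot.powerBasis_dim,
        Fintype.card_fin, hμ44, Fintype.card_fun, Fintype.card_fin]⟩).2
    obtain ⟨a, ha⟩ := hsurj (A.mulVec v)
    refine ⟨a, ?_⟩
    have hcomm : ∀ P : Polynomial F, A * Polynomial.aeval M P = Polynomial.aeval M P * A := fun P => by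
      induction P using Polynomial.induction_on' with
      | add P Q hP hQ => rw [map_add, mul_add, add_mul, hP, hQ]
      | monomial n c =>
        rw [Polynomial.aeval_monomial, ← mul_assoc, ← Algebra.commutes, mul_assoc,
          ((show Commute A M from hA).pow_right n).eq, ← mul_assoc]
    apply Matrix.ext_of_mulVec_single
    intro i
    obtain ⟨b, hb⟩ := hsurj (Pi.single i 1)
    obtain ⟨P, rfl⟩ := AdjoinRoot.mk_surjective b
    have hb' : (ψ (AdjoinRoot.mk μ P)).mulVec v = Pi.single i 1 := hb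
    have ha' : (ψ a).mulVec v = A.mulVec v := ha
    rw [← hb', Matrix.mulVec_mulVec, Matrix.mulVec_mulVec]
    calc (ψ a * ψ (AdjoinRoot.mk μ P)).mulVec v = (ψ (AdjoinRoot.mk μ P) * ψ a).mulVec v := by
          rw [← map_mul, mul_comm, map_mul]
      _ = (ψ (AdjoinRoot.mk μ P) * A).mulVec v := by
          rw [← Matrix.mulVec_mulVec, ha', Matrix.mulVec_mulVec]
      _ = _ := by rw [hψ, hcomm]
  choose g hg using fun y : ↥(Subgroup.centralizer ({x} : Set SL(4, F))) =>
    hrange ((y : SL(4, F)) : Matrix (Fin 4) (Fin 4) F) (by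
      have := congrArg (fun z : SL(4, F) => (z : Matrix (Fin 4) (Fin 4) F))
        (Subgroup.mem_centralizer_singleton_iff.1 y.2)
      simpa [M] using this)
  let Φ : ↥(Subgroup.centralizer ({x} : Set SL(4, F))) →* AdjoinRoot μ :=
    { toFun := g
      map_one' := hψi (by rw [hg, map_one]; rfl)
      map_mul' := fun y z => hψi (by rw [hg, map_mul, hg, hg]; rfl) }
  refine ⟨μ, hμ4, minpoly.monic hint, hμirr, Φ, fun y z h => Subtype.ext (Subtype.ext ?_), fun y hy => ?_⟩
  · rw [← hg y, ← hg z]; exact congrArg ψ h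
  · obtain ⟨c, hc⟩ := isConj_iff.1 hy
    have h1 : Polynomial.aeval ((y : SL(4, F)) : Matrix (Fin 4) (Fin 4) F) μ = 0 := by
      set N := ((y : SL(4, F)) : Matrix (Fin 4) (Fin 4) F)
      have hM : M = (c : Matrix (Fin 4) (Fin 4) F) * N * ((c⁻¹ : SL(4, F)) : Matrix (Fin 4) (Fin 4) F) := by
        simp only [M, N, ← Matrix.SpecialLinearGroup.coe_mul, hc]
      have hcu : ((c⁻¹ : SL(4, F)) : Matrix (Fin 4) (Fin 4) F) * (c : Matrix (Fin 4) (Fin 4) F) = 1 := by
        rw [← Matrix.SpecialLinearGroup.coe_mul, inv_mul_cancel, Matrix.SpecialLinearGroup.coe_one]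
      have key : ∀ P : Polynomial F, ((c⁻¹ : SL(4, F)) : Matrix (Fin 4) (Fin 4) F) * Polynomial.aeval M P *
          (c : Matrix (Fin 4) (Fin 4) F) = Polynomial.aeval N P := fun P => by
        induction P using Polynomial.induction_on' with
        | add P Q hP hQ => rw [map_add, map_add, mul_add, add_mul, hP, hQ]
        | monomial n a =>
          rw [Polynomial.aeval_monomial, Polynomial.aeval_monomial, ← mul_assoc, ← Algebra.commutes,
            mul_assoc, mul_assoc]
          congr 1
          induction n with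
          | zero => rw [pow_zero, pow_zero, one_mul, hcu]
          | succ n ih =>
            have hMc : M * (c : Matrix (Fin 4) (Fin 4) F) = (c : Matrix (Fin 4) (Fin 4) F) * N := by
              rw [hM, mul_assoc, hcu, mul_one]
            rw [pow_succ, pow_succ, ← ih, mul_assoc (M ^ n), hMc]
            simp only [mul_assoc]
      rw [← key μ, hμ, minpoly.aeval, mul_zero, zero_mul]
    refine (Polynomial.IsRoot.def).2 (hψi ?_)
    rw [map_zero, ← h1, ← hg y, Polynomial.eval_map, Polynomial.hom_eval₂, Polynomial.aeval_def]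
    congr 1
    ext c : 1
    show ψ (AdjoinRoot.mk μ (Polynomial.C c)) = _
    rw [hψ, Polynomial.aeval_C]

theorem isCyclic_centralizer_of_prime {p : ℕ} (hp : p.Prime) (hp2 : p ≠ 2)
    (hpq : p ∣ Fintype.card F ^ 2 + 1) {x : SL(4, F)} (hx : orderOf x = p) :
    IsCyclic ↥(Subgroup.centralizer ({x} : Set SL(4, F))) := by
  obtain ⟨μ, -, -, hirr, ψ, hψ, -⟩ := exists_field_of_prime hp hp2 hpq hx
  haveI := Fact.mk hirr
  exact isCyclic_of_subgroup_isDomain ψ hψ

variable {m : ℕ} (hm : 1 ≤ m) (hF : Fintype.card F = 2 ^ (2 * m + 1))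

include hm hF

omit hm in
theorem two_dvd_q : 2 ∣ Fintype.card F := hF ▸ dvd_pow_self 2 (Nat.succ_ne_zero _)

/-- a group of order `p` part fixing two points -/
theorem stab_pair_le (c : Cfsg.Sz F m) {p q : suzukiOvoid F m}
    (h1 : c • (⟨_, ovoid_inf⟩ : suzukiOvoid F m) = p) (h2 : c • (⟨_, ovoid_zero⟩ : suzukiOvoid F m) = q)
    {g : Cfsg.Sz F m} (hp : g • p = p) (hq : g • q = q) : ∃ k, g = c * HS hF k * c⁻¹ := by
  obtain ⟨k, hk⟩ : ∃ k, c⁻¹ * g * c = HS hF k := by
    refine (mem_stab_pair hm hF).1 (Subgroup.mem_inf.2 ⟨?_, ?_⟩)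
    · rw [MulAction.mem_stabilizer_iff]
      have h : (c⁻¹ * g * c) • (⟨_, ovoid_inf⟩ : suzukiOvoid F m) = ⟨_, ovoid_inf⟩ := by
        rw [mul_smul, mul_smul, h1, hp, ← h1, inv_smul_smul]
      exact congrArg Subtype.val h
    · rw [MulAction.mem_stabilizer_iff]
      have h : (c⁻¹ * g * c) • (⟨_, ovoid_zero⟩ : suzukiOvoid F m) = ⟨_, ovoid_zero⟩ := by
        rw [mul_smul, mul_smul, h2, hq, ← h2, inv_smul_smul]
      exact congrArg Subtype.val h
  exact ⟨k, by rw [← hk]; group⟩

omit hm in
theorem exists_conj_pair {p q : suzukiOvoid F m} (hpq : p ≠ q) : ∃ c : Cfsg.Sz F m,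
    c • (⟨_, ovoid_inf⟩ : suzukiOvoid F m) = p ∧ c • (⟨_, ovoid_zero⟩ : suzukiOvoid F m) = q :=
  MulAction.is_two_pretransitive_iff.1 (two_trans hF (m := m))
    (show (⟨_, ovoid_inf⟩ : suzukiOvoid F m) ≠ ⟨_, ovoid_zero⟩ from
      fun h => inf_ne_zero (congrArg Subtype.val h)) hpq

/-- the torus subgroup -/
noncomputable def HSub : Subgroup (Cfsg.Sz F m) where
  carrier := Set.range (HS hF)
  one_mem' := ⟨1, Subtype.ext H_one⟩
  mul_mem' := by rintro _ _ ⟨a, rfl⟩ ⟨b, rfl⟩; exact ⟨a * b, Subtype.ext (H_mul a b)⟩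
  inv_mem' := by rintro _ ⟨a, rfl⟩; exact ⟨a⁻¹, Subtype.ext (H_inv a)⟩

theorem isCyclic_HSub : IsCyclic ↥(HSub hF : Subgroup (Cfsg.Sz F m)) :=
  isCyclic_of_surjective
    ({ toFun := fun k => ⟨HS hF k, k, rfl⟩
       map_one' := Subtype.ext (Subtype.ext H_one)
       map_mul' := fun a b => Subtype.ext (Subtype.ext (H_mul a b)) } : Fˣ →* ↥(HSub hF : Subgroup (Cfsg.Sz F m)))
    (by rintro ⟨_, k, rfl⟩; exact ⟨k, rfl⟩)

omit hm in
theorem card_omega : Nat.card (suzukiOvoid F m) = Fintype.card F ^ 2 + 1 := card_ovoid hF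

/-- a subgroup of prime power order, odd, not fixing a point has order dividing into `q² + 1` -/
theorem dvd_or_fix {p : ℕ} [Fact p.Prime] {P : Subgroup (Cfsg.Sz F m)} (hP : IsPGroup p P) :
    p ∣ Fintype.card F ^ 2 + 1 ∨ ∃ a : suzukiOvoid F m, ∀ g ∈ P, g • a = a := by
  by_cases h : p ∣ Fintype.card F ^ 2 + 1
  · exact Or.inl h
  · right
    obtain ⟨a, ha⟩ := hP.nonempty_fixed_point_of_prime_not_dvd_card (α := suzukiOvoid F m)
      (by rw [card_omega hF]; exact h)
    exact ⟨a, fun g hg => ha ⟨g, hg⟩⟩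

/-- an odd `p`-subgroup either centralises an element acting without fixed points or lies in a torus -/
theorem odd_pgroup_cases {p : ℕ} [Fact p.Prime] (hp2 : p ≠ 2) {P : Subgroup (Cfsg.Sz F m)}
    (hP : IsPGroup p P) :
    p ∣ Fintype.card F ^ 2 + 1 ∨ ∃ c : Cfsg.Sz F m, P ≤ (HSub hF).map (MulAut.conj c).toMonoidHom := by
  classical
  rcases dvd_or_fix hm hF hP with h | ⟨a, ha⟩
  · exact Or.inl h
  by_cases h : p ∣ Fintype.card F ^ 2 + 1
  · exact Or.inl h
  right
  have hq : ¬ p ∣ Fintype.card F ^ 2 := fun hd' => hp2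
    ((Nat.prime_dvd_prime_iff_eq Fact.out Nat.prime_two).1
      ((Fact.out : p.Prime).dvd_of_dvd_pow (hF ▸ (Fact.out : p.Prime).dvd_of_dvd_pow hd')))
  obtain ⟨b, hba, hb⟩ : ∃ b : suzukiOvoid F m, b ≠ a ∧ ∀ g ∈ P, g • b = b := by
    by_contra hno
    push Not at hno
    refine hq ?_
    have hfix : MulAction.fixedPoints P (suzukiOvoid F m) = {a} := by
      ext b
      simp only [Set.mem_singleton_iff, MulAction.mem_fixedPoints]
      refine ⟨fun hb => by_contra fun hne => ?_, fun hb g => hb ▸ ha g g.2⟩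
      obtain ⟨g, hg, hgb⟩ := hno b hne
      exact hgb (hb ⟨g, hg⟩)
    have h1 := hP.card_modEq_card_fixedPoints (suzukiOvoid F m)
    rw [hfix, card_omega hF, Nat.card_coe_set_eq, Set.ncard_singleton] at h1
    exact Nat.modEq_zero_iff_dvd.1 (Nat.ModEq.add_right_cancel' 1 (h1.trans (by rfl : (1 : ℕ) ≡ 0 + 1 [MOD p])))
  obtain ⟨c, h1, h2⟩ := exists_conj_pair hF (Ne.symm hba)
  refine ⟨c, fun g hg => ?_⟩
  obtain ⟨k, hk⟩ := stab_pair_le hm hF c h1 h2 (ha g hg) (hb g hg)
  exact ⟨HS hF k, ⟨k, rfl⟩, hk.symm⟩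

theorem isCyclic_odd_pgroup {p : ℕ} [Fact p.Prime] (hp2 : p ≠ 2) {P : Subgroup (Cfsg.Sz F m)}
    (hP : IsPGroup p P) : IsCyclic P := by
  rcases odd_pgroup_cases hm hF hp2 hP with h | ⟨c, hc⟩
  · rcases subsingleton_or_nontrivial P with hs | hn
    · exact isCyclic_of_subsingleton
    haveI := hP.center_nontrivial
    obtain ⟨k, hk⟩ := IsPGroup.iff_card.1 (hP.to_subgroup (Subgroup.center P))
    have hk0 : k ≠ 0 := fun e => absurd (Finite.one_lt_card (α := Subgroup.center P))
      (by rw [hk, e, pow_zero]; exact lt_irrefl 1)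
    obtain ⟨z, hz⟩ := exists_prime_orderOf_dvd_card' (G := Subgroup.center P) p (hk ▸ dvd_pow_self p hk0)
    set x : SL(4, F) := (((z : P) : Cfsg.Sz F m) : SL(4, F))
    have hx : orderOf x = p := by rw [Subgroup.orderOf_coe, Subgroup.orderOf_coe, Subgroup.orderOf_coe, hz]
    haveI := isCyclic_centralizer_of_prime (Fact.out : p.Prime) hp2 h hx
    refine isCyclic_of_injective
      ({ toFun := fun g => ⟨((g : Cfsg.Sz F m) : SL(4, F)), Subgroup.mem_centralizer_singleton_iff.2
            (congrArg (fun w : P => ((w : Cfsg.Sz F m) : SL(4, F))) (Subgroup.mem_center_iff.1 z.2 g))⟩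
         map_one' := rfl
         map_mul' := fun _ _ => rfl } : P →* ↥(Subgroup.centralizer ({x} : Set SL(4, F))))
      (fun g g' hgg => Subtype.ext (Subtype.ext (congrArg Subtype.val hgg :)))
  · haveI := isCyclic_HSub hm hF
    haveI : IsCyclic ↥((HSub hF).map (MulAut.conj c).toMonoidHom) :=
      isCyclic_of_surjective ((MulAut.conj c).toMonoidHom.subgroupMap _) (MonoidHom.subgroupMap_surjective _ _)
    exact isCyclic_of_injective (Subgroup.inclusion hc) (Subgroup.inclusion_injective hc)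

omit hm in
theorem centralizer_maps_fixed {x g : Cfsg.Sz F m} (hg : g * x = x * g) {a : suzukiOvoid F m}
    (h : x • a = a) : x • g • a = g • a := by
  rw [← mul_smul, ← hg, mul_smul, h]

omit hm in
theorem three_of {x : Cfsg.Sz F m} (hx1 : x ≠ 1) (hm : 1 ≤ m) {a b c : suzukiOvoid F m} (hab : a ≠ b)
    (h1 : x • a = a) (h2 : x • b = b) (h3 : x • c = c) : c = a ∨ c = b := by
  by_contra h
  push Not at h
  exact hx1 (three_fix hm hF x a b c hab (Ne.symm h.2) (Ne.symm h.1) h1 h2 h3)

/-- the centraliser of an element with exactly two fixed points lies in a torus -/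
theorem centralizer_two_fixed {x : Cfsg.Sz F m} (hx1 : x ≠ 1) {a b : suzukiOvoid F m} (hab : a ≠ b)
    (h1 : x • a = a) (h2 : x • b = b) :
    ∃ c : Cfsg.Sz F m, Subgroup.centralizer ({x} : Set (Cfsg.Sz F m)) ≤
      (HSub hF).map (MulAut.conj c).toMonoidHom := by
  obtain ⟨c, hca, hcb⟩ := exists_conj_pair hF hab
  obtain ⟨k, hk⟩ := stab_pair_le hm hF c hca hcb h1 h2
  refine ⟨c, fun g hg => ?_⟩
  have hg' : g * x = x * g := Subgroup.mem_centralizer_singleton_iff.1 hg
  have ha' := three_of hF hx1 hm hab h1 h2 (centralizer_maps_fixed hF hg' h1)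
  have hb' := three_of hF hx1 hm hab h1 h2 (centralizer_maps_fixed hF hg' h2)
  rcases ha' with ha' | ha'
  · rcases hb' with hb' | hb'
    · exact absurd (MulAction.injective g (ha'.trans hb'.symm)) hab
    · obtain ⟨l, hl⟩ := stab_pair_le hm hF c hca hcb ha' hb'
      exact ⟨HS hF l, ⟨l, rfl⟩, hl.symm⟩
  · exfalso
    rcases hb' with hb' | hb'
    swap
    · exact absurd (MulAction.injective g (ha'.trans hb'.symm)) hab
    have hW0 : (WS hF : Cfsg.Sz F m) • (⟨_, ovoid_zero⟩ : suzukiOvoid F m) = ⟨_, ovoid_inf⟩ :=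
      Subtype.ext W_zero
    have hW1 : (WS hF : Cfsg.Sz F m) • (⟨_, ovoid_inf⟩ : suzukiOvoid F m) = ⟨_, ovoid_zero⟩ :=
      Subtype.ext W_inf
    obtain ⟨l, hl⟩ := stab_pair_le hm hF c hca hcb (g := c * WS hF * c⁻¹ * g)
      (by rw [mul_smul, ha', mul_smul, mul_smul, ← hcb, inv_smul_smul, hW0, hca])
      (by rw [mul_smul, hb', mul_smul, mul_smul, ← hca, inv_smul_smul, hW1, hcb])
    have hgeq : g = c * (WS hF)⁻¹ * HS hF l * c⁻¹ := by
      calc g = c * (WS hF)⁻¹ * c⁻¹ * (c * WS hF * c⁻¹ * g) := by group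
        _ = _ := by rw [hl]; group
    have h3 : (WS hF)⁻¹ * HS hF l * HS hF k = HS hF k * ((WS hF)⁻¹ * HS hF l) := by
      rw [hgeq, hk] at hg'
      have h4 := congrArg (fun z => c⁻¹ * z * c) hg'
      simpa [mul_assoc] using h4
    have hl' : HS hF l * HS hF k = (HS hF k * HS hF l : Cfsg.Sz F m) :=
      Subtype.ext ((H_mul l k).symm.trans ((congrArg (H m) (mul_comm l k)).trans (H_mul k l)))
    rw [mul_assoc, hl'] at h3
    have h4 : (WS hF)⁻¹ * HS hF k = HS hF k * (WS hF)⁻¹ := by
      rw [← mul_assoc, ← mul_assoc] at h3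
      exact mul_right_cancel h3
    have h5 : HS hF k = WS hF * HS hF k * WS hF := by
      have : (WS hF : Cfsg.Sz F m)⁻¹ = WS hF := inv_eq_iff_mul_eq_one.2 (Subtype.ext W_sq)
      rw [this] at h4
      rw [h4, mul_assoc, show (WS hF : Cfsg.Sz F m) * WS hF = 1 from Subtype.ext W_sq, mul_one]
    have h6 : k = k⁻¹ := HS_injective hF (h5.trans (Subtype.ext (WHW k)))
    have h7 : k = 1 := by
      apply Units.ext
      rw [Units.val_one]
      apply sq_injective (isSuzField hF)
      rw [one_pow, sq, ← Units.val_mul]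
      nth_rewrite 2 [h6]
      rw [mul_inv_cancel, Units.val_one]
    apply hx1
    rw [hk, h7, show (HS hF 1 : Cfsg.Sz F m) = 1 from Subtype.ext H_one]
    group

/-- a torus element with a translation factor has a second fixed point -/
theorem exists_second_fix {a b : F} {k : Fˣ} (hk : k ≠ 1) :
    ∃ x y : F, (TS hF a b * HS hF k : Cfsg.Sz F m) •
      (⟨pt m x y, (ovoid_iff _).2 (Or.inr ⟨x, y, rfl⟩)⟩ : suzukiOvoid F m) =
        ⟨pt m x y, (ovoid_iff _).2 (Or.inr ⟨x, y, rfl⟩)⟩ := by
  have hS := isSuzField hF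
  have h2 := two_eq_zero hS
  have hk1 : (k : F) + 1 ≠ 0 := fun h => hk (Units.ext (by
    rw [Units.val_one, eq_neg_of_add_eq_zero_left h, neg_eq hS]))
  have hk2 : th m (k : F) * k + 1 ≠ 0 := fun h => hk (kth_injective hS (by
    show th m (k : F) * k = th m ((1 : Fˣ) : F) * ((1 : Fˣ) : F)
    rw [Units.val_one, th_one hS, mul_one, eq_neg_of_add_eq_zero_left h, neg_eq hS]))
  set x := a / ((k : F) + 1) with hx
  refine ⟨x, (th m a * ((k : F) * x) + b) / (th m (k : F) * k + 1), ?_⟩
  apply Subtype.ext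
  show (T m a b * H m k) • pt m x _ = pt m x _
  rw [mul_smul, H_pt hS, T_pt hS]
  have hxa : x * ((k : F) + 1) = a := by rw [hx]; field_simp
  congr 1
  · linear_combination -hxa + (k : F) * x * h2
  · set y := (th m a * ((k : F) * x) + b) / (th m (k : F) * k + 1) with hy
    have hya : y * (th m (k : F) * k + 1) = th m a * ((k : F) * x) + b := by
      rw [hy, div_mul_cancel₀ _ hk2]
    linear_combination -hya + th m (k : F) * k * y * h2

/-- the centraliser of an element with exactly one fixed point is a 2-group -/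
theorem centralizer_one_fixed {x : Cfsg.Sz F m} (hx1 : x ≠ 1) {a : suzukiOvoid F m} (h1 : x • a = a)
    (hone : ∀ b, x • b = b → b = a) :
    IsPGroup 2 ↥(Subgroup.centralizer ({x} : Set (Cfsg.Sz F m))) := by
  have hS := isSuzField hF
  obtain ⟨c, hc⟩ : ∃ c : Cfsg.Sz F m, c • (⟨_, ovoid_inf⟩ : suzukiOvoid F m) = a := by
    obtain ⟨a, ha⟩ := a
    obtain ⟨g, hg⟩ := (orbit_inf hF (m := m)).symm ▸ ha
    exact ⟨g, Subtype.ext hg⟩
  refine ((U_isPGroup hF).map (MulAut.conj c).toMonoidHom).to_le fun g hg => ?_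
  have hg' : g * x = x * g := Subgroup.mem_centralizer_singleton_iff.1 hg
  have hga : g • a = a := hone _ (centralizer_maps_fixed hF hg' h1)
  have hst : c⁻¹ * g * c ∈ MulAction.stabilizer (Cfsg.Sz F m) (suzukiPointInfinity F) := by
    rw [MulAction.mem_stabilizer_iff]
    have h : (c⁻¹ * g * c) • (⟨_, ovoid_inf⟩ : suzukiOvoid F m) = ⟨_, ovoid_inf⟩ := by
      rw [mul_smul, mul_smul, hc, hga, ← hc, inv_smul_smul]
    exact congrArg Subtype.val h
  obtain ⟨s, t, k, hk⟩ := (mem_stab_inf hm hF).1 hst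
  refine ⟨c⁻¹ * g * c, ?_, by simp [mul_assoc]⟩
  by_cases hk1 : k = 1
  · refine ⟨s, t, ?_⟩
    rw [hk, hk1, show (HS hF 1 : Cfsg.Sz F m) = 1 from Subtype.ext H_one, mul_one]
    rfl
  · exfalso
    obtain ⟨u, v, huv⟩ := exists_second_fix hm hF (a := s) (b := t) hk1
    set z : suzukiOvoid F m := ⟨pt m u v, (ovoid_iff _).2 (Or.inr ⟨u, v, rfl⟩)⟩
    have hgz : g • (c • z) = c • z := by
      rw [← hk, mul_smul, mul_smul, inv_smul_eq_iff] at huv
      exact huv
    have hg1 : g ≠ 1 := by
      rintro rfl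
      rw [mul_one, inv_mul_cancel] at hk
      refine hk1 (TH_inj hF (a := 0) (b := 0) (k := 1) (a' := s) (b' := t) (k' := k) ?_).2.2.symm
      rw [T_zero, H_one, mul_one]
      exact congrArg Subtype.val hk
    have hne : a ≠ c • z := fun h => by
      rw [← hc] at h
      exact pt_ne_inf u v (congrArg Subtype.val (MulAction.injective c h)).symm
    have hxz : x • (c • z) = a ∨ x • (c • z) = c • z :=
      three_of hF hg1 hm hne hga hgz (centralizer_maps_fixed hF hg'.symm hgz)
    rcases hxz with h | h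
    · exact hne (MulAction.injective x (h1.trans h.symm))
    · exact hne (hone _ h).symm

/-- the centraliser of a non-identity element: cyclic, or a 2-group -/
theorem centralizer_cases {x : Cfsg.Sz F m} (hx1 : x ≠ 1) :
    IsCyclic ↥(Subgroup.centralizer ({x} : Set (Cfsg.Sz F m))) ∨
      IsPGroup 2 ↥(Subgroup.centralizer ({x} : Set (Cfsg.Sz F m))) := by
  classical
  haveI := isCyclic_HSub hm hF
  have hord : orderOf x ≠ 1 := fun h => hx1 (orderOf_eq_one_iff.1 h)
  obtain ⟨p, hp, hpd⟩ := Nat.exists_prime_and_dvd hord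
  haveI := Fact.mk hp
  set y := x ^ (orderOf x / p) with hy
  have hyo : orderOf y = p := orderOf_pow_orderOf_div (orderOf_pos x).ne' hpd
  have hy1 : y ≠ 1 := fun h => by rw [h, orderOf_one] at hyo; exact hp.ne_one hyo.symm
  have hle : Subgroup.centralizer ({x} : Set (Cfsg.Sz F m)) ≤ Subgroup.centralizer {y} := fun g hg =>
    Subgroup.mem_centralizer_singleton_iff.2
      ((show Commute g x from Subgroup.mem_centralizer_singleton_iff.1 hg).pow_right _).eq
  suffices h : IsCyclic ↥(Subgroup.centralizer ({y} : Set (Cfsg.Sz F m))) ∨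
      IsPGroup 2 ↥(Subgroup.centralizer ({y} : Set (Cfsg.Sz F m))) by
    rcases h with h | h
    · exact Or.inl (isCyclic_of_injective (Subgroup.inclusion hle) (Subgroup.inclusion_injective hle))
    · exact Or.inr (h.to_le hle)
  by_cases hfix : ∃ a : suzukiOvoid F m, y • a = a
  · obtain ⟨a, ha⟩ := hfix
    by_cases htwo : ∃ b, b ≠ a ∧ y • b = b
    · obtain ⟨b, hb, hby⟩ := htwo
      obtain ⟨c, hc⟩ := centralizer_two_fixed hm hF hy1 (Ne.symm hb) ha hby
      left
      haveI : IsCyclic ↥((HSub hF).map (MulAut.conj c).toMonoidHom) :=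
        isCyclic_of_surjective ((MulAut.conj c).toMonoidHom.subgroupMap _) (MonoidHom.subgroupMap_surjective _ _)
      exact isCyclic_of_injective (Subgroup.inclusion hc) (Subgroup.inclusion_injective hc)
    · push Not at htwo
      exact Or.inr (centralizer_one_fixed hm hF hy1 ha fun b hb => by_contra fun hne => htwo b hne hb)
  · left
    have hzp : IsPGroup p (Subgroup.zpowers y) := IsPGroup.of_card (n := 1) (by rw [Nat.card_zpowers, hyo, pow_one])
    rcases dvd_or_fix hm hF hzp with hd | ⟨a, ha⟩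
    · have hp2 : p ≠ 2 := fun h => by
        have h1 : 2 ∣ Fintype.card F ^ 2 := dvd_pow (two_dvd_q hF) two_ne_zero
        rw [h] at hd
        exact Nat.prime_two.not_dvd_one ((Nat.dvd_add_right h1).1 hd)
      haveI := isCyclic_centralizer_of_prime hp hp2 hd (x := (y : SL(4, F)))
        (by rw [Subgroup.orderOf_coe, hyo])
      exact isCyclic_of_injective
        ({ toFun := fun g => ⟨((g : Cfsg.Sz F m) : SL(4, F)), Subgroup.mem_centralizer_singleton_iff.2
              (congrArg Subtype.val (Subgroup.mem_centralizer_singleton_iff.1 g.2))⟩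
           map_one' := rfl
           map_mul' := fun _ _ => rfl } :
          ↥(Subgroup.centralizer ({y} : Set (Cfsg.Sz F m))) →* ↥(Subgroup.centralizer ({(y : SL(4, F))} : Set SL(4, F))))
        (fun g g' hgg => Subtype.ext (Subtype.ext (congrArg Subtype.val hgg :)))
    · exact absurd ⟨a, ha y (Subgroup.mem_zpowers y)⟩ hfix

end CfsgLib.Lie.Suz
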