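import Cfsg.Agent.Lib.Lie.Suz.Twisted

/-!
# The smallest degree of a faithful representation of a Suzuki group
-/

set_option autoImplicit false

namespace CfsgLib.Lie.Suz

open Cfsg
open scoped MatrixGroups

variable {F : Type*} [Field F] [Fintype F] {m : ℕ}

/-- a real character of the additive group -/
structure Sign (ε : F → ℂ) : Prop where
  map_add : ∀ a b, ε (a + b) = ε a * ε b
  sq : ∀ a, ε a * ε a = 1
  ne : ∃ a, ε a ≠ 1

theorem Sign.map_zero {ε : F → ℂ} (h : Sign ε) : ε 0 = 1 := by
  have h1 := h.map_add 0 0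
  have h2 := h.sq 0
  rw [add_zero] at h1
  rw [h1, h2]

theorem Sign.comp_mul {ε : F → ℂ} (h : Sign ε) {c : F} (hc : c ≠ 0) : Sign fun x => ε (c * x) := by
  refine ⟨fun a b => by simp only [mul_add, h.map_add], fun a => h.sq _, ?_⟩
  obtain ⟨a, ha⟩ := h.ne
  exact ⟨c⁻¹ * a, by simpa [← mul_assoc, mul_inv_cancel₀ hc] using ha⟩

theorem Sign.sum_eq_zero {ε : F → ℂ} (h : Sign ε) : ∑ x, ε x = 0 := by
  obtain ⟨a, ha⟩ := h.ne
  have e : ∑ x, ε x = ε a * ∑ x, ε x := by
    rw [Finset.mul_sum]
    exact (Fintype.sum_equiv (Equiv.addLeft a) (fun x => ε a * ε x) ε fun x => (h.map_add a x).symm).symm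
  have h1 : (ε a - 1) * ∑ x, ε x = 0 := by rw [sub_mul, one_mul, ← e, sub_self]
  exact (mul_eq_zero.1 h1).resolve_left (sub_ne_zero.2 ha)

section form

variable (hm : 1 ≤ m) (hF : Fintype.card F = 2 ^ (2 * m + 1))

include hm hF

/-- the radical of the commutator form has order at most two -/
theorem radical_unique {ε : F → ℂ} (hε : Sign ε) {a a' : F} (ha0 : a ≠ 0) (ha0' : a' ≠ 0)
    (ha : ∀ b, ε (th m b * a + th m a * b) = 1) (ha' : ∀ b, ε (th m b * a' + th m a' * b) = 1) :
    a = a' := by
  classical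
  have hS := isSuzField hF
  let f : F →+ F := AddMonoidHom.mk' (fun s => th m s + s) fun s t => by rw [th_add hS]; ring
  have hker : (f.ker : Set F) = {0, 1} := by
    ext s
    simp only [SetLike.mem_coe, AddMonoidHom.mem_ker, f, AddMonoidHom.mk'_apply, Set.mem_insert_iff,
      Set.mem_singleton_iff]
    constructor
    · intro h
      have h1 : th m s = s := by rw [eq_neg_of_add_eq_zero_left h, neg_eq hS]
      have h2 : s * s = s * 1 := by rw [← sq, ← th_th hS, h1, h1, mul_one]
      rcases eq_or_ne s 0 with e | e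
      · exact Or.inl e
      · exact Or.inr (mul_left_cancel₀ e h2)
    · rintro (rfl | rfl)
      · rw [th_zero hS, add_zero]
      · rw [th_one hS, add_self hS]
  have hW : Nat.card f.range * 2 = Fintype.card F := by
    have h := AddSubgroup.card_mul_index f.ker
    have hk2 : Nat.card f.ker = 2 := by
      show Nat.card ↥(f.ker : Set F) = 2
      rw [hker, Nat.card_coe_set_eq, Set.ncard_pair zero_ne_one]
    rw [AddSubgroup.index_ker, hk2, Nat.card_eq_fintype_card (α := F)] at h
    rw [mul_comm]; exact h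
  let L : AddSubgroup F :=
    { carrier := {x | ε x = 1}
      zero_mem' := hε.map_zero
      add_mem' := fun {x y} (hx : ε x = 1) (hy : ε y = 1) => show ε (x + y) = 1 by rw [hε.map_add, hx, hy, one_mul]
      neg_mem' := fun {x} (hx : ε x = 1) => show ε (-x) = 1 by rwa [neg_eq hS] }
  have hL : Nat.card L * 2 ≤ Fintype.card F := by
    have h := AddSubgroup.card_mul_index L
    rw [Nat.card_eq_fintype_card (α := F)] at h
    have hne : L.index ≠ 1 := fun e => by
      obtain ⟨x, hx⟩ := hε.ne
      exact hx (show x ∈ L from (AddSubgroup.index_eq_one.1 e) ▸ AddSubgroup.mem_top x)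
    have hpos : L.index ≠ 0 := AddSubgroup.index_ne_zero_of_finite
    rw [← h]
    exact Nat.mul_le_mul_left _ (by omega)
  set W : Finset F := Finset.univ.filter fun x => x ∈ f.range with hWdef
  set Lf : Finset F := Finset.univ.filter fun x => x ∈ L with hLdef
  have hWc : W.card = Nat.card f.range := by
    rw [hWdef, ← Fintype.card_subtype, ← Nat.card_eq_fintype_card]
  have hLc : Lf.card = Nat.card L := by
    rw [hLdef, ← Fintype.card_subtype, ← Nat.card_eq_fintype_card]
  have himg : ∀ a : F, a ≠ 0 → (∀ b, ε (th m b * a + th m a * b) = 1) →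
      W.image (fun w => th m a * a * w) = Lf := by
    intro a ha0 ha
    have hk : th m a * a ≠ 0 := mul_ne_zero (fun h => ha0 (th_eq_zero hS h)) ha0
    refine Finset.eq_of_subset_of_card_le (fun x hx => ?_) ?_
    · simp only [hWdef, Finset.mem_image, Finset.mem_filter, Finset.mem_univ, true_and] at hx
      obtain ⟨_, ⟨s, rfl⟩, rfl⟩ := hx
      simp only [hLdef, Finset.mem_filter, Finset.mem_univ, true_and]
      show ε (th m a * a * (th m s + s)) = 1
      rw [← ha (a * s), th_mul hS]
      congr 1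
      ring
    · rw [Finset.card_image_of_injective _ (mul_right_injective₀ hk), hWc, hLc]
      omega
  set k := th m a * a with hk
  set k' := th m a' * a' with hk'
  have hk0 : k ≠ 0 := mul_ne_zero (fun h => ha0 (th_eq_zero hS h)) ha0
  have hk0' : k' ≠ 0 := mul_ne_zero (fun h => ha0' (th_eq_zero hS h)) ha0'
  set μ := k' / k with hμ
  have hμ0 : μ ≠ 0 := div_ne_zero hk0' hk0
  have hstab : W.image (fun w => μ * w) = W := by
    have e := (himg a' ha0' ha').trans (himg a ha0 ha).symm
    apply Finset.image_injective (mul_right_injective₀ hk0)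
    simp only [Finset.image_image]
    rw [← hk] at e
    refine Eq.trans ?_ e
    exact Finset.image_congr fun w _ => by
      simp only [Function.comp_apply, hμ]
      rw [← mul_assoc, mul_div_cancel₀ _ hk0]
  have h0 : (0 : F) ∈ W := by
    simp only [hWdef, Finset.mem_filter, Finset.mem_univ, true_and]; exact zero_mem _
  have hstab' : (W.erase 0).image (fun w => μ * w) = W.erase 0 := by
    rw [Finset.image_erase (mul_right_injective₀ hμ0), mul_zero, hstab]
  have hprod : μ ^ (W.erase 0).card = 1 := by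
    have e : ∏ w ∈ W.erase 0, μ * w = ∏ w ∈ W.erase 0, w := by
      conv_rhs => rw [← hstab']
      rw [Finset.prod_image fun x _ y _ h => mul_right_injective₀ hμ0 h]
    rw [Finset.prod_mul_distrib, Finset.prod_const] at e
    exact mul_right_cancel₀ (Finset.prod_ne_zero_iff.2 fun w hw => Finset.ne_of_mem_erase hw)
      (e.trans (one_mul _).symm)
  have hμ1 : μ = 1 := by
    have h1 := orderOf_dvd_of_pow_eq_one hprod
    have h2 := orderOf_dvd_of_pow_eq_one (FiniteField.pow_card_sub_one_eq_one μ hμ0)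
    rw [Finset.card_erase_of_mem h0, hWc] at h1
    have h3 := Nat.dvd_sub h2 (Dvd.dvd.mul_right h1 2)
    have hW1 : 1 ≤ Nat.card f.range := Nat.card_pos
    rw [show Fintype.card F - 1 - (Nat.card f.range - 1) * 2 = 1 by omega, Nat.dvd_one,
      orderOf_eq_one_iff] at h3
    exact h3
  have hkk : th m a' * a' = th m a * a := by
    rw [hμ, div_eq_one_iff_eq hk0] at hμ1
    exact hμ1
  have := kth_injective hS (a₁ := Units.mk0 a' ha0') (a₂ := Units.mk0 a ha0) hkk
  exact (congrArg Units.val this).symm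

end form

/-- The degree bound. -/
theorem min_degree (hm : 1 ≤ m) (hF : Fintype.card F = 2 ^ (2 * m + 1)) {V : Type*} [AddCommGroup V]
    [Module ℂ V] [FiniteDimensional ℂ V] (ρ : Cfsg.Sz F m →* Module.End ℂ V)
    (hinj : Function.Injective ρ) : 2 ^ m * (2 ^ (2 * m + 1) - 1) ≤ Module.finrank ℂ V := by
  classical
  have hS := isSuzField hF
  have hTmul : ∀ a b a' b' : F,
      TS hF a b * TS hF a' b' = (TS hF (a + a') (b + b' + th m a * a') : Cfsg.Sz F m) :=
    fun a b a' b' => Subtype.ext (T_mul hS a b a' b')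
  have h00 : TS hF (0 : F) 0 = (1 : Cfsg.Sz F m) := Subtype.ext T_zero
  let σ : F → Module.End ℂ V := fun b => ρ (TS hF 0 b)
  have hσmul : ∀ b b' (v : V), σ b (σ b' v) = σ (b + b') v := by
    intro b b' v
    simp only [σ]
    rw [← Module.End.mul_apply, ← map_mul, hTmul, add_zero, th_zero hS, zero_mul, add_zero]
  have hσ0 : ∀ v, σ 0 v = v := fun v => by simp only [σ]; rw [h00, map_one]; rfl
  have hσsq : ∀ b v, σ b (σ b v) = v := fun b v => by rw [hσmul, add_self hS, hσ0]
  -- an eigenvector of the centre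
  obtain ⟨ε, v₀, hv₀, hεv, hεne⟩ : ∃ (ε : F → ℂ) (v : V), v ≠ 0 ∧ (∀ b, σ b v = ε b • v) ∧
      ∃ b, ε b ≠ 1 := by
    obtain ⟨w, hw⟩ : ∃ w, σ 1 w ≠ w := by
      by_contra h
      push Not at h
      have h1 : ρ (TS hF 0 1) = ρ 1 := by rw [map_one]; exact LinearMap.ext h
      rw [← h00] at h1
      have := TS_injective hF (a₁ := ((0 : F), (1 : F))) (a₂ := (0, 0)) (hinj h1)
      exact one_ne_zero (congrArg Prod.snd this)
    have hS' : ∀ S : Finset F, ∃ (v : V), v ≠ 0 ∧ σ 1 v = (-1 : ℂ) • v ∧
        ∀ b ∈ S, ∃ c : ℂ, σ b v = c • v := by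
      intro S
      induction S using Finset.induction with
      | empty =>
        refine ⟨w - σ 1 w, sub_ne_zero.2 (Ne.symm hw), ?_, by simp⟩
        rw [map_sub, hσsq, neg_one_smul, neg_sub]
      | insert b S _ ih =>
        obtain ⟨v, hv, h1, hvS⟩ := ih
        obtain ⟨u, hu, c, hc, hu'⟩ : ∃ u, u ≠ 0 ∧ ∃ c : ℂ, σ b u = c • u ∧
            ∀ (b' : F) (c' : ℂ), σ b' v = c' • v → σ b' u = c' • u := by
          have hcomm : ∀ (b' : F) (c' : ℂ), σ b' v = c' • v → σ b' (σ b v) = c' • σ b v := by
            intro b' c' h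
            rw [hσmul, add_comm, ← hσmul, h, map_smul]
          by_cases hp : v + σ b v = 0
          · refine ⟨v, hv, -1, ?_, fun b' c' h => h⟩
            rw [neg_one_smul]; exact eq_neg_of_add_eq_zero_right hp
          · refine ⟨v + σ b v, hp, 1, ?_, fun b' c' h => ?_⟩
            · rw [one_smul, map_add, hσsq, add_comm]
            · rw [map_add, h, hcomm b' c' h, smul_add]
        refine ⟨u, hu, hu' 1 _ h1, fun b' hb' => ?_⟩
        rcases Finset.mem_insert.1 hb' with rfl | hb'
        · exact ⟨c, hc⟩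
        · obtain ⟨c', hc'⟩ := hvS b' hb'
          exact ⟨c', hu' b' c' hc'⟩
    obtain ⟨v, hv, h1, hall⟩ := hS' Finset.univ
    choose ε hε using fun b => hall b (Finset.mem_univ b)
    refine ⟨ε, v, hv, hε, 1, fun h => ?_⟩
    rw [hε 1, h] at h1
    have := smul_left_injective ℂ hv h1
    norm_num at this
  have hε : Sign ε := by
    have hinjv := smul_left_injective ℂ hv₀
    refine ⟨fun a b => hinjv ?_, fun a => hinjv ?_, hεne⟩
    · show ε (a + b) • v₀ = (ε a * ε b) • v₀
      rw [← hεv, ← hσmul, hεv b, map_smul, hεv a, smul_smul, mul_comm]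
    · show (ε a * ε a) • v₀ = (1 : ℂ) • v₀
      rw [one_smul]
      conv_rhs => rw [← hσsq a v₀, hεv a, map_smul, hεv a, smul_smul]
  let Vε : Submodule ℂ V :=
    { carrier := {w | ∀ b, σ b w = ε b • w}
      zero_mem' := fun b => by simp
      add_mem' := fun {x y} hx hy b => by rw [map_add, hx b, hy b, smul_add]
      smul_mem' := fun c x hx b => by rw [map_smul, hx b, smul_comm] }
  set d := Module.finrank ℂ Vε with hd
  -- the translations act on the eigenspace
  have hmapsV : ∀ a : F, ∀ w ∈ Vε, ρ (TS hF a 0) w ∈ Vε := by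
    intro a w hw b
    have e : TS hF 0 b * TS hF a 0 = (TS hF a 0 * TS hF 0 b : Cfsg.Sz F m) :=
      Subtype.ext (T_zero_comm hS a 0 b)
    show ρ (TS hF 0 b) (ρ (TS hF a 0) w) = _
    rw [← Module.End.mul_apply, ← map_mul, e, map_mul, Module.End.mul_apply]
    show ρ (TS hF a 0) (σ b w) = _
    rw [hw b, map_smul]
  let X : F → Module.End ℂ Vε := fun a => (ρ (TS hF a 0)).restrict (hmapsV a)
  have hXval : ∀ a (w : Vε), (X a w : V) = ρ (TS hF a 0) (w : V) := fun a w => rfl
  have hXinv : ∀ b (w : Vε), ∃ u : Vε, X b u = w := by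
    intro b w
    have hi : Function.Injective (X b) := fun u u' h => Subtype.ext (by
      have h' : ρ (TS hF b 0) (u : V) = ρ (TS hF b 0) (u' : V) := congrArg Subtype.val h
      have := congrArg (ρ (TS hF b 0)⁻¹) h'
      rwa [← Module.End.mul_apply, ← Module.End.mul_apply, ← map_mul, inv_mul_cancel, map_one] at this)
    exact LinearMap.surjective_of_injective hi w
  let e : F → F → ℂ := fun a b => ε (th m b * a + th m a * b)
  have hrel : ∀ a b (w : Vε), X b (X a w) = e a b • X a (X b w) := by
    intro a b w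
    apply Subtype.ext
    rw [hXval, hXval, Submodule.coe_smul, hXval, hXval, ← Module.End.mul_apply, ← map_mul,
      ← Module.End.mul_apply, ← map_mul]
    have e' : TS hF b 0 * TS hF a 0 =
        (TS hF 0 (th m b * a + th m a * b) * (TS hF a 0 * TS hF b 0) : Cfsg.Sz F m) := by
      rw [hTmul, hTmul, hTmul]
      simp only [th_zero hS, zero_mul, add_zero, zero_add]
      congr 1
      · ring
      · have h2 := two_eq_zero hS
        linear_combination (-(th m a * b)) * h2
    rw [e', map_mul, Module.End.mul_apply]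
    have hmem : ρ (TS hF a 0 * TS hF b 0) (w : V) ∈ Vε := by
      rw [map_mul, Module.End.mul_apply]; exact hmapsV a _ (hmapsV b _ w.2)
    exact hmem _
  have he : ∀ a, (∀ b, e a b = 1) ∨ Sign (e a) := by
    intro a
    by_cases h : ∀ b, e a b = 1
    · exact Or.inl h
    · refine Or.inr ⟨fun b b' => ?_, fun b => hε.sq _, not_forall.1 h⟩
      simp only [e, ← hε.map_add, th_add hS]
      ring_nf
  have he_add : ∀ a a' b, e (a + a') b = e a b * e a' b := by
    intro a a' b
    simp only [e, ← hε.map_add, th_add hS]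
    ring_nf
  let R : AddSubgroup F :=
    { carrier := {a | ∀ b, e a b = 1}
      zero_mem' := fun b => by simp [e, th_zero hS, hε.map_zero]
      add_mem' := fun {x y} hx hy b => by rw [he_add, hx b, hy b, one_mul]
      neg_mem' := fun {x} hx => by rwa [neg_eq hS] }
  have hR : Nat.card R ≤ 2 := by
    rw [Nat.card_eq_fintype_card]
    by_contra h
    obtain ⟨x, y, z, hxy, hxz, hyz⟩ := Fintype.two_lt_card_iff.1 (not_le.1 h)
    have key : ∀ u u' : R, u ≠ 0 → u' ≠ 0 → u = u' := fun u u' hu hu' =>
      Subtype.ext (radical_unique hm hF hε (fun e => hu (Subtype.ext e)) (fun e => hu' (Subtype.ext e)) u.2 u'.2)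
    by_cases hx : x = 0
    · exact hyz (key y z (fun e => hxy (hx.trans e.symm)) fun e => hxz (hx.trans e.symm))
    by_cases hy : y = 0
    · exact hxz (key x z hx fun e => hyz (hy.trans e.symm))
    exact hxy (key x y hx hy)
  -- the translations of distinct cosets are independent
  have hli : LinearIndependent ℂ fun c : F ⧸ R => X c.out := by
    rw [Fintype.linearIndependent_iff]
    intro g hg c₀
    have h1 : ∀ b (w : Vε), ∑ c, (g c * e c.out b) • X c.out (X b w) = 0 := by
      intro b w
      have := congrArg (fun T : Module.End ℂ Vε => X b (T w)) hg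
      simp only [LinearMap.coe_sum, Finset.sum_apply, LinearMap.smul_apply, map_sum, map_smul,
        LinearMap.zero_apply, map_zero] at this
      refine Eq.trans ?_ this
      exact Finset.sum_congr rfl fun c _ => by rw [hrel c.out b w, smul_smul]
    have h2 : ∀ b (u : Vε), ∑ c, (g c * e c.out b) • X c.out u = 0 := by
      intro b u
      obtain ⟨w, rfl⟩ := hXinv b u
      exact h1 b w
    obtain ⟨u, hu⟩ : ∃ u : Vε, u ≠ 0 := ⟨⟨v₀, hεv⟩, fun h => hv₀ (congrArg Subtype.val h)⟩
    have h3 : ∑ b, e c₀.out b • ∑ c, (g c * e c.out b) • X c.out u = 0 :=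
      Finset.sum_eq_zero fun b _ => by rw [h2 b u, smul_zero]
    simp only [Finset.smul_sum, smul_smul] at h3
    rw [Finset.sum_comm] at h3
    simp only [← Finset.sum_smul] at h3
    rw [Finset.sum_eq_single c₀] at h3
    · have h4 : ∀ b, e c₀.out b * (g c₀ * e c₀.out b) = g c₀ := fun b => by
        rw [mul_left_comm, hε.sq, mul_one]
      simp only [h4, Finset.sum_const, Finset.card_univ, nsmul_eq_mul] at h3
      rcases smul_eq_zero.1 h3 with h | h
      · exact (mul_eq_zero.1 h).resolve_left (Nat.cast_ne_zero.2 Fintype.card_ne_zero)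
      · exfalso
        apply hu
        apply Subtype.ext
        have hi : ρ (TS hF c₀.out 0) (u : V) = 0 := congrArg Subtype.val h
        have := congrArg (ρ (TS hF c₀.out 0)⁻¹) hi
        rwa [← Module.End.mul_apply, ← map_mul, inv_mul_cancel, map_one, map_zero] at this
    · intro c _ hc
      have hnot : ¬ ∀ b, e (c₀.out + c.out) b = 1 := by
        intro h
        apply hc
        rw [← c.out_eq', ← c₀.out_eq', QuotientAddGroup.eq]
        show -c.out + c₀.out ∈ R
        rw [neg_eq hS, add_comm]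
        exact h
      have h0 := ((he _).resolve_left hnot).sum_eq_zero
      have : ∑ b, e c₀.out b * (g c * e c.out b) = g c * ∑ b, e (c₀.out + c.out) b := by
        rw [Finset.mul_sum]
        exact Finset.sum_congr rfl fun b _ => by rw [he_add]; ring
      rw [this, h0, mul_zero, zero_smul]
    · simp
  have hd2 : Fintype.card F ≤ 2 * d ^ 2 := by
    have h1 := hli.fintype_card_le_finrank
    have h2 : Fintype.card F = Nat.card (F ⧸ R) * Nat.card R := by
      rw [← Nat.card_eq_fintype_card]; exact AddSubgroup.card_eq_card_quotient_mul_card_addSubgroup R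
    rw [Module.finrank_linearMap, ← hd, ← Nat.card_eq_fintype_card] at h1
    rw [h2]
    calc Nat.card (F ⧸ R) * Nat.card R ≤ d * d * 2 := Nat.mul_le_mul h1 hR
      _ = 2 * d ^ 2 := by ring
  have hd' : 2 ^ m ≤ d := by
    refine Nat.pow_le_pow_iff_left (n := 2) two_ne_zero |>.1 ?_
    have : (2 : ℕ) ^ (2 * m + 1) = 2 * (2 ^ m) ^ 2 := by rw [← pow_mul, pow_succ, mul_comm m 2, mul_comm]
    omega
  -- the torus gives `q - 1` different eigenspaces
  choose K hK using fun c : Fˣ => exists_kth_eq hF c.ne_zero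
  have hmapsH : ∀ (c : Fˣ) (w : V), w ∈ Vε → ∀ b,
      σ b (ρ (HS hF (K c)) w) = ε ((c : F)⁻¹ * b) • ρ (HS hF (K c)) w := by
    intro c w hw b
    have e1 := H_conj_T hF (K c) 0 ((c : F)⁻¹ * b)
    rw [mul_zero, hK, ← mul_assoc, mul_inv_cancel₀ c.ne_zero, one_mul, mul_inv_eq_iff_eq_mul] at e1
    show ρ (TS hF 0 b) (ρ (HS hF (K c)) w) = _
    rw [← Module.End.mul_apply, ← map_mul, ← e1, map_mul, Module.End.mul_apply]
    show ρ (HS hF (K c)) (σ ((c : F)⁻¹ * b) w) = _
    rw [hw, map_smul]
  let Φ : (Fˣ → Vε) →ₗ[ℂ] V := ∑ c, (ρ (HS hF (K c))).comp (Vε.subtype.comp (LinearMap.proj c))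
  have hΦ : Function.Injective Φ := by
    rw [← LinearMap.ker_eq_bot, LinearMap.ker_eq_bot']
    intro f hf
    funext c₀
    have h3 : ∑ b, ε ((c₀ : F)⁻¹ * b) • σ b (Φ f) = 0 := by simp [hf]
    simp only [Φ, LinearMap.coe_sum, Finset.sum_apply, LinearMap.comp_apply, LinearMap.proj_apply,
      Submodule.subtype_apply, map_sum, Finset.smul_sum] at h3
    simp only [hmapsH _ _ (f _).2, smul_smul] at h3
    rw [Finset.sum_comm] at h3
    simp only [← Finset.sum_smul] at h3
    rw [Finset.sum_eq_single c₀] at h3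
    · simp only [hε.sq, Finset.sum_const, Finset.card_univ, nsmul_eq_mul, mul_one] at h3
      have h4 := (smul_eq_zero.1 h3).resolve_left (Nat.cast_ne_zero.2 Fintype.card_ne_zero)
      have := congrArg (ρ (HS hF (K c₀))⁻¹) h4
      rw [← Module.End.mul_apply, ← map_mul, inv_mul_cancel, map_one, map_zero] at this
      exact Subtype.ext this
    · intro c _ hc
      have hne : (c₀ : F)⁻¹ + (c : F)⁻¹ ≠ 0 := fun h => hc (by
        apply Units.ext
        rw [← inv_inv (c : F), eq_neg_of_add_eq_zero_right h, neg_eq hS, inv_inv])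
      have : ∑ b, ε ((c₀ : F)⁻¹ * b) * ε ((c : F)⁻¹ * b) = 0 := by
        rw [← (hε.comp_mul hne).sum_eq_zero]
        exact Finset.sum_congr rfl fun b _ => by rw [← hε.map_add, add_mul]
      rw [this, zero_smul]
    · simp
  have hle := LinearMap.finrank_le_finrank_of_injective hΦ
  rw [Module.finrank_pi_fintype, Finset.sum_const, Finset.card_univ, Fintype.card_units, smul_eq_mul,
    ← hd, hF, mul_comm] at hle
  exact (Nat.mul_le_mul_right _ hd').trans hle

end CfsgLib.Lie.Suz
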