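import Cfsg.Prelude.Def_LieExceptional

/-!
# The Suzuki–Tits ovoid: translations, torus and the involution swapping the base points
-/

set_option autoImplicit false

namespace CfsgLib.Lie.Suz

open Cfsg
open scoped MatrixGroups Pointwise

variable {F : Type*} [Field F] {m : ℕ}

/-- the Suzuki automorphism -/
def th (m : ℕ) (x : F) : F := x ^ (2 ^ (m + 1))

/-- the Suzuki function -/
def fO (m : ℕ) (x y : F) : F := x * y + th m x * x ^ 2 + th m y

/-- the vector of an affine point of the ovoid -/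
def ptV (m : ℕ) (x y : F) : Fin 4 → F := ![fO m x y, y, x, 1]

theorem ptV_ne (x y : F) : ptV m x y ≠ 0 := fun h => by simpa [ptV] using congrFun h 3

/-- an affine point of the ovoid -/
def pt (m : ℕ) (x y : F) : Projectivization F (Fin 4 → F) := Projectivization.mk F (ptV m x y) (ptV_ne x y)

theorem ovoid_iff (p : Projectivization F (Fin 4 → F)) :
    p ∈ suzukiOvoid F m ↔ p = suzukiPointInfinity F ∨ ∃ x y : F, p = pt m x y := by
  have e : ∀ x y : F, x * y + x ^ (2 ^ (m + 1) + 2) + y ^ (2 ^ (m + 1)) = fO m x y := fun x y => by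
    rw [fO, th, th, pow_add]
  constructor
  · rintro ⟨v, hv, rfl, rfl | ⟨x, y, rfl⟩⟩
    · exact Or.inl rfl
    · refine Or.inr ⟨x, y, ?_⟩
      simp only [e]
      rfl
  · rintro (rfl | ⟨x, y, rfl⟩)
    · exact ⟨_, _, rfl, Or.inl rfl⟩
    · exact ⟨ptV m x y, ptV_ne x y, rfl, Or.inr ⟨x, y, by rw [e]; rfl⟩⟩

theorem pt_ne_inf (x y : F) : pt m x y ≠ suzukiPointInfinity F := by
  intro h
  obtain ⟨a, ha⟩ := (Projectivization.mk_eq_mk_iff' F _ _ _ _).1 h
  simpa [ptV] using congrFun ha 3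

theorem pt_inj {x y x' y' : F} (h : pt m x y = pt m x' y') : x = x' ∧ y = y' := by
  obtain ⟨a, ha⟩ := (Projectivization.mk_eq_mk_iff' F _ _ _ _).1 h
  have h3 := congrFun ha 3
  simp [ptV] at h3
  subst h3
  have h2 := congrFun ha 2
  have h1 := congrFun ha 1
  simp [ptV] at h1 h2
  exact ⟨h2.symm, h1.symm⟩

theorem pt_zero_zero : pt m (0 : F) 0 = suzukiPointZero F := by
  have h : ptV m (0 : F) 0 = ![0, 0, 0, 1] := by simp [ptV, fO, th]
  simp only [pt, h, suzukiPointZero]

/-! ### the field facts -/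

/-- the field of definition -/
def IsSuzField (F : Type*) [Field F] (m : ℕ) : Prop :=
  CharP F 2 ∧ ∀ x : F, x ^ (2 ^ (2 * m + 1)) = x

theorem isSuzField [Fintype F] (hF : Fintype.card F = 2 ^ (2 * m + 1)) : IsSuzField F m := by
  refine ⟨?_, fun x => hF ▸ FiniteField.pow_card x⟩
  haveI := Fact.mk Nat.prime_two
  exact charP_of_card_eq_prime_pow (p := 2) (f := 2 * m + 1) hF

variable (hS : IsSuzField F m)

include hS

theorem two_eq_zero : (2 : F) = 0 := by
  haveI := hS.1
  exact CharTwo.two_eq_zero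

theorem add_self (x : F) : x + x = 0 := by
  rw [← two_mul, two_eq_zero hS, zero_mul]

theorem neg_eq (x : F) : -x = x := (eq_neg_of_add_eq_zero_left (add_self hS x)).symm

theorem th_add (x y : F) : th m (x + y) = th m x + th m y := by
  haveI := hS.1
  exact add_pow_char_pow x y 2 (m + 1)

theorem th_zero : th m (0 : F) = 0 := by simp [th]

theorem th_one : th m (1 : F) = 1 := one_pow _

theorem th_mul (x y : F) : th m (x * y) = th m x * th m y := mul_pow x y _

theorem th_inv (x : F) : th m x⁻¹ = (th m x)⁻¹ := inv_pow x _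

theorem th_pow (x : F) (n : ℕ) : th m (x ^ n) = th m x ^ n := by
  rw [th, th, ← pow_mul, ← pow_mul, mul_comm]

theorem th_th (x : F) : th m (th m x) = x ^ 2 := by
  rw [th, th, ← pow_mul, ← pow_add, show m + 1 + (m + 1) = (2 * m + 1) + 1 by omega, pow_succ,
    pow_mul, hS.2]

theorem th_eq_zero {x : F} (h : th m x = 0) : x = 0 := by
  simpa [th] using h

theorem th_injective : Function.Injective (th m : F → F) := fun x y h => by
  have h1 : th m (x + y) = 0 := by rw [th_add hS, h, add_self hS]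
  have h2 := th_eq_zero hS h1
  rw [eq_neg_of_add_eq_zero_left h2, neg_eq hS]

theorem sq_injective {x y : F} (h : x ^ 2 = y ^ 2) : x = y := by
  rw [← th_th hS, ← th_th hS] at h
  exact th_injective hS (th_injective hS h)

theorem sq_add (x y : F) : (x + y) ^ 2 = x ^ 2 + y ^ 2 := by
  rw [add_sq, two_eq_zero hS]; ring

theorem fO_th (x y : F) : th m (fO m x y) = th m x * th m y + x ^ 2 * th m x ^ 2 + y ^ 2 := by
  simp only [fO, th_add hS, th_mul hS, th_pow hS, th_th hS]

/-- the identity behind the involution -/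
theorem fO_identity (x y : F) :
    th m (fO m x y) * (fO m x y + x * y) = th m y * y ^ 2 + th m x * fO m x y ^ 2 := by
  have h2 := two_eq_zero hS
  rw [fO_th hS]
  simp only [fO]
  grind

theorem fO_ne_zero {x y : F} (h : ¬ (x = 0 ∧ y = 0)) : fO m x y ≠ 0 := by
  intro h0
  have h1 := fO_identity hS x y
  rw [h0, th_zero hS, zero_mul, zero_pow two_ne_zero, mul_zero, add_zero, eq_comm] at h1
  have hy : y = 0 := by
    rcases mul_eq_zero.1 h1 with h' | h'
    · exact th_eq_zero hS h'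
    · simpa using h'
  subst hy
  rw [fO, th_zero hS, mul_zero, zero_add, add_zero] at h0
  refine h ⟨?_, rfl⟩
  rcases mul_eq_zero.1 h0 with h' | h'
  · exact th_eq_zero hS h'
  · simpa using h'

theorem fO_shift (a b x y : F) :
    fO m (x + a) (y + th m a * x + b) =
      fO m x y + a * y + (b + th m a * a) * x + fO m a b := by
  have h2 := two_eq_zero hS
  simp only [fO, th_add hS, th_mul hS, th_th hS, sq_add hS]
  grind

/-! ### the three kinds of elements -/

omit hS in
/-- the matrix of a translation -/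
def Tm (m : ℕ) (a b : F) : Matrix (Fin 4) (Fin 4) F :=
  !![1, a, b + th m a * a, fO m a b; 0, 1, th m a, b; 0, 0, 1, a; 0, 0, 0, 1]

omit hS in
theorem Tm_det (a b : F) : (Tm m a b).det = 1 := by
  rw [Matrix.det_of_upperTriangular]
  · simp [Fin.prod_univ_four, Tm]
  · intro i j hij
    fin_cases i <;> fin_cases j <;> simp_all [Tm]

omit hS in
/-- a translation -/
def T (m : ℕ) (a b : F) : SL(4, F) := ⟨Tm m a b, Tm_det a b⟩

omit hS in
/-- the diagonal entries of a torus element -/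
def hd (m : ℕ) (k : Fˣ) : Fin 4 → F :=
  ![((k ^ (2 ^ m + 1) : Fˣ) : F), ((k ^ (2 ^ m) : Fˣ) : F), (((k ^ (2 ^ m))⁻¹ : Fˣ) : F),
    (((k ^ (2 ^ m + 1))⁻¹ : Fˣ) : F)]

omit hS in
theorem Hm_det (k : Fˣ) : (Matrix.diagonal (hd m k)).det = 1 := by
  rw [Matrix.det_diagonal, Fin.prod_univ_four]
  simp only [hd, Matrix.cons_val_zero, Matrix.cons_val_one, Matrix.cons_val]
  rw [← Units.val_mul, ← Units.val_mul, ← Units.val_mul]
  have : k ^ (2 ^ m + 1) * k ^ 2 ^ m * (k ^ 2 ^ m)⁻¹ * (k ^ (2 ^ m + 1))⁻¹ = 1 := by group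
  rw [this, Units.val_one]

omit hS in
/-- a torus element -/
def H (m : ℕ) (k : Fˣ) : SL(4, F) := ⟨Matrix.diagonal (hd m k), Hm_det k⟩

omit hS in
/-- the antidiagonal matrix -/
def Wm : Matrix (Fin 4) (Fin 4) F := !![0, 0, 0, 1; 0, 0, 1, 0; 0, 1, 0, 0; 1, 0, 0, 0]

omit hS in
theorem Wm_det : (Wm : Matrix (Fin 4) (Fin 4) F).det = 1 := by
  simp [Wm, Matrix.det_succ_row_zero, Fin.sum_univ_succ, Fin.succAbove]
  norm_num

omit hS in
/-- the involution exchanging the base points -/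
def W : SL(4, F) := ⟨Wm, Wm_det⟩

omit hS in
theorem smul_vec (g : SL(4, F)) (v : Fin 4 → F) :
    g • v = Matrix.mulVec (g : Matrix (Fin 4) (Fin 4) F) v := rfl

omit hS in
theorem mk_congr {v w : Fin 4 → F} (hv : v ≠ 0) (hw : w ≠ 0) (a : F) (h : a • w = v) :
    Projectivization.mk F v hv = Projectivization.mk F w hw :=
  (Projectivization.mk_eq_mk_iff' F _ _ _ _).2 ⟨a, h⟩

omit hS in
theorem smul_mk_eq {g : SL(4, F)} {v w : Fin 4 → F} (hv : v ≠ 0) (hw : w ≠ 0) (a : F)
    (h : Matrix.mulVec (g : Matrix (Fin 4) (Fin 4) F) v = a • w) :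
    g • Projectivization.mk F v hv = Projectivization.mk F w hw := by
  rw [Projectivization.smul_mk]
  exact mk_congr _ hw a h.symm

theorem T_pt (a b x y : F) : T m a b • pt m x y = pt m (x + a) (y + th m a * x + b) := by
  refine smul_mk_eq _ _ 1 ?_
  rw [one_smul, ptV, ptV, fO_shift hS]
  ext i
  fin_cases i <;> simp [T, Tm, Matrix.mulVec, dotProduct, Fin.sum_univ_four] <;> ring

omit hS in
theorem T_inf (a b : F) : T m a b • suzukiPointInfinity F = suzukiPointInfinity F := by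
  refine smul_mk_eq _ _ 1 ?_
  ext i
  fin_cases i <;> simp [T, Tm, Matrix.mulVec, dotProduct, Fin.sum_univ_four]

omit hS in
theorem th_units (k : Fˣ) : th m (k : F) = ((k ^ 2 ^ m : Fˣ) : F) ^ 2 := by
  rw [th, Units.val_pow_eq_pow_val, ← pow_mul, pow_succ]

theorem H_pt (k : Fˣ) (x y : F) :
    H m k • pt m x y = pt m ((k : F) * x) (th m (k : F) * k * y) := by
  refine smul_mk_eq _ _ (((k ^ (2 ^ m + 1))⁻¹ : Fˣ) : F) ?_
  have e : fO m ((k : F) * x) (th m (k : F) * k * y) = th m (k : F) * k ^ 2 * fO m x y := by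
    simp only [fO, th_mul hS, th_th hS]; ring
  have hk : (k : F) ≠ 0 := k.ne_zero
  simp only [ptV, e]
  ext i
  fin_cases i <;>
    simp [H, Matrix.mulVec_diagonal, hd, th_units, pow_succ, Units.val_inv_eq_inv_val] <;>
    field_simp

omit hS in
theorem H_inf (k : Fˣ) : H m k • suzukiPointInfinity F = suzukiPointInfinity F := by
  refine smul_mk_eq _ _ ((k ^ (2 ^ m + 1) : Fˣ) : F) ?_
  ext i
  fin_cases i <;> simp [H, Matrix.mulVec_diagonal, hd]

omit hS in
theorem W_inf : (W : SL(4, F)) • suzukiPointInfinity F = (suzukiPointZero F) := by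
  refine smul_mk_eq _ _ 1 ?_
  ext i
  fin_cases i <;> simp [W, Wm, Matrix.mulVec, dotProduct, Fin.sum_univ_four]

omit hS in
theorem W_zero : (W : SL(4, F)) • suzukiPointZero F = (suzukiPointInfinity F) := by
  refine smul_mk_eq _ _ 1 ?_
  ext i
  fin_cases i <;> simp [W, Wm, Matrix.mulVec, dotProduct, Fin.sum_univ_four]

theorem W_pt {x y : F} (h : ¬ (x = 0 ∧ y = 0)) :
    (W : SL(4, F)) • pt m x y = pt m (y * (fO m x y)⁻¹) (x * (fO m x y)⁻¹) := by
  have hf := fO_ne_zero hS h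
  refine smul_mk_eq _ _ (fO m x y) ?_
  have e : fO m (y * (fO m x y)⁻¹) (x * (fO m x y)⁻¹) * fO m x y = 1 := by
    have h2 := two_eq_zero hS
    have hi := fO_identity hS x y
    have hth : th m (fO m x y) ≠ 0 := fun h' => hf (th_eq_zero hS h')
    set φ := fO m x y
    simp only [fO, th_mul hS, th_inv hS]
    field_simp
    grind
  ext i
  fin_cases i <;> simp [W, Wm, ptV, Matrix.mulVec, dotProduct, Fin.sum_univ_four] <;>
    first
      | (rw [mul_comm]; exact e.symm)
      | field_simp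

omit hS in
/-- mapping the ovoid into itself suffices -/
theorem mem_Sz [Finite F] {g : SL(4, F)} (h : ∀ p ∈ suzukiOvoid F m, g • p ∈ suzukiOvoid F m) :
    g ∈ Cfsg.Sz F m := by
  rw [MulAction.mem_stabilizer_iff]
  refine (Set.eq_of_subset_of_ncard_le ?_ (le_of_eq ?_) (Set.toFinite _))
  · rintro _ ⟨p, hp, rfl⟩
    exact h p hp
  · exact (Set.ncard_image_of_injective _ (MulAction.injective g)).symm

theorem T_mem [Finite F] (a b : F) : T m a b ∈ Cfsg.Sz F m := by
  refine mem_Sz fun p hp => ?_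
  rcases (ovoid_iff p).1 hp with rfl | ⟨x, y, rfl⟩
  · rw [T_inf]; exact (ovoid_iff _).2 (Or.inl rfl)
  · rw [T_pt hS]; exact (ovoid_iff _).2 (Or.inr ⟨_, _, rfl⟩)

theorem H_mem [Finite F] (k : Fˣ) : H m k ∈ Cfsg.Sz F m := by
  refine mem_Sz fun p hp => ?_
  rcases (ovoid_iff p).1 hp with rfl | ⟨x, y, rfl⟩
  · rw [H_inf]; exact (ovoid_iff _).2 (Or.inl rfl)
  · rw [H_pt hS]; exact (ovoid_iff _).2 (Or.inr ⟨_, _, rfl⟩)

theorem W_mem [Finite F] : (W : SL(4, F)) ∈ Cfsg.Sz F m := by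
  refine mem_Sz fun p hp => ?_
  rcases (ovoid_iff p).1 hp with rfl | ⟨x, y, rfl⟩
  · rw [W_inf, ← pt_zero_zero (m := m)]; exact (ovoid_iff _).2 (Or.inr ⟨_, _, rfl⟩)
  · by_cases h : x = 0 ∧ y = 0
    · rw [h.1, h.2, pt_zero_zero, W_zero]; exact (ovoid_iff _).2 (Or.inl rfl)
    · rw [W_pt hS h]; exact (ovoid_iff _).2 (Or.inr ⟨_, _, rfl⟩)

end CfsgLib.Lie.Suz
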