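import Cfsg.Agent.Lib.Lie.Suz.Basic

/-!
# The Suzuki group on the ovoid: stabilisers, orbits, orders
-/

set_option autoImplicit false

namespace CfsgLib.Lie.Suz

open Cfsg
open scoped MatrixGroups Pointwise

variable {F : Type*} [Field F] {m : ℕ}

theorem smul_mem_ovoid {g : SL(4, F)} (hg : g ∈ Cfsg.Sz F m) {p : Projectivization F (Fin 4 → F)}
    (hp : p ∈ suzukiOvoid F m) : g • p ∈ suzukiOvoid F m := by
  rw [MulAction.mem_stabilizer_iff] at hg
  exact hg ▸ Set.smul_mem_smul_set hp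

theorem T_zero_pt (hS : IsSuzField F m) (a b : F) :
    T m a b • suzukiPointZero F = pt m a b := by
  rw [← pt_zero_zero (m := m), T_pt hS]
  simp

theorem H_zero_pt (hS : IsSuzField F m) (k : Fˣ) :
    H m k • suzukiPointZero F = suzukiPointZero F := by
  rw [← pt_zero_zero (m := m), H_pt hS, mul_zero, mul_zero]

theorem W_sq : (W : SL(4, F)) * W = 1 := by
  ext i j
  rw [Matrix.SpecialLinearGroup.coe_mul]
  fin_cases i <;> fin_cases j <;> simp [W, Wm, Matrix.mul_apply, Fin.sum_univ_four]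

variable [Fintype F] (hm : 1 ≤ m) (hF : Fintype.card F = 2 ^ (2 * m + 1))

include hm hF

/-- a polynomial function with the three Suzuki exponents -/
theorem three_terms {a b c : F}
    (h : ∀ x : F, a * x ^ 2 + b * x ^ (2 ^ (m + 1)) + c * (x ^ (2 ^ (m + 1)) * x ^ 2) = 0) :
    a = 0 ∧ b = 0 ∧ c = 0 := by
  classical
  have h4 : 4 ≤ 2 ^ (m + 1) := by
    calc 4 = 2 ^ 2 := rfl
      _ ≤ _ := Nat.pow_le_pow_right (by norm_num) (by omega)
  have hlt : 2 ^ (m + 1) + 2 < Fintype.card F := by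
    have h1 : 2 * 2 ^ (m + 1) ≤ 2 ^ (2 * m + 1) := by
      rw [← pow_succ']
      exact Nat.pow_le_pow_right (by norm_num) (by omega)
    rw [hF]; omega
  set n := 2 ^ (m + 1) with hn
  set P : Polynomial F := Polynomial.C a * Polynomial.X ^ 2 + Polynomial.C b * Polynomial.X ^ n +
    Polynomial.C c * Polynomial.X ^ (n + 2) with hP
  have hP0 : P = 0 := by
    refine Polynomial.eq_zero_of_natDegree_lt_card_of_eval_eq_zero P Function.injective_id
      (fun x => ?_) ?_
    · simp only [hP, id, Polynomial.eval_add, Polynomial.eval_mul, Polynomial.eval_C,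
        Polynomial.eval_pow, Polynomial.eval_X, pow_add]
      exact h x
    · refine lt_of_le_of_lt ?_ hlt
      rw [hP]
      compute_degree
  have key : ∀ k, P.coeff k = 0 := fun k => by rw [hP0, Polynomial.coeff_zero]
  have e1 := key 2
  have e2 := key n
  have e3 := key (n + 2)
  simp only [hP, Polynomial.coeff_add, Polynomial.coeff_C_mul_X_pow] at e1 e2 e3
  refine ⟨?_, ?_, ?_⟩
  · simpa [show 2 ≠ n by omega, show n ≠ 0 by omega] using e1
  · simpa [show n ≠ 2 by omega] using e2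
  · simpa [show n ≠ 0 by omega] using e3

theorem row_three {g : SL(4, F)} (hg : g ∈ Cfsg.Sz F m)
    (h : g • suzukiPointInfinity F = suzukiPointInfinity F) :
    (∀ i, i ≠ 0 → (g : Matrix (Fin 4) (Fin 4) F) i 0 = 0) ∧
      (g : Matrix (Fin 4) (Fin 4) F) 3 1 = 0 ∧ (g : Matrix (Fin 4) (Fin 4) F) 3 2 = 0 := by
  have hcol : ∀ i, i ≠ 0 → (g : Matrix (Fin 4) (Fin 4) F) i 0 = 0 := by
    rw [suzukiPointInfinity, Projectivization.smul_mk] at h
    obtain ⟨a, ha⟩ := (Projectivization.mk_eq_mk_iff' F _ _ _ _).1 h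
    rw [smul_vec] at ha
    intro i hi
    have := congrFun ha i
    fin_cases i <;> simp_all [Matrix.mulVec, dotProduct, Fin.sum_univ_four]
  refine ⟨hcol, ?_⟩
  have h30 := hcol 3 (by decide)
  set M := (g : Matrix (Fin 4) (Fin 4) F)
  have key : ∀ x y : F, M 3 1 * y + M 3 2 * x + M 3 3 ≠ 0 := by
    intro x y hz
    rcases (ovoid_iff _).1 (smul_mem_ovoid hg ((ovoid_iff _).2 (Or.inr ⟨x, y, rfl⟩))) with h1 | ⟨x', y', h1⟩
    · exact pt_ne_inf x y ((MulAction.injective g) (h1.trans h.symm))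
    · rw [pt, Projectivization.smul_mk] at h1
      obtain ⟨a, ha⟩ := (Projectivization.mk_eq_mk_iff' F _ _ _ _).1 h1
      rw [smul_vec] at ha
      have h3 := congrFun ha 3
      simp [ptV, Matrix.mulVec, dotProduct, Fin.sum_univ_four, h30, M, hz] at h3
      subst h3
      have : (M.mulVec (ptV m x y)) = 0 := by rw [← ha]; simp
      have h5 : g • ptV m x y = 0 := this
      exact ptV_ne x y ((smul_eq_zero_iff_eq g).1 h5)
  refine ⟨?_, ?_⟩
  · by_contra h1
    refine key 0 (-M 3 3 / M 3 1) ?_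
    field_simp
    ring
  · by_contra h1
    refine key (-M 3 3 / M 3 2) 0 ?_
    field_simp
    ring

theorem eq_H_of_fix {g : SL(4, F)} (hg : g ∈ Cfsg.Sz F m)
    (hi : g • suzukiPointInfinity F = suzukiPointInfinity F)
    (h0 : g • suzukiPointZero F = suzukiPointZero F) : ∃ k : Fˣ, g = H m k := by
  have hS := isSuzField hF
  obtain ⟨hc0, h31, h32⟩ := row_three hm hF hg hi
  have hWm : (W : SL(4, F)) ∈ Cfsg.Sz F m := W_mem hS
  obtain ⟨hc3, h02, h01⟩ := row_three hm hF (g := W * g * W) (mul_mem (mul_mem hWm hg) hWm)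
    (by rw [mul_smul, mul_smul, W_inf, h0, W_zero])
  set M := (g : Matrix (Fin 4) (Fin 4) F) with hM
  have e13 : ∀ i j, ((W * g * W : SL(4, F)) : Matrix (Fin 4) (Fin 4) F) i j = M i.rev j.rev := by
    intro i j
    rw [Matrix.SpecialLinearGroup.coe_mul, Matrix.SpecialLinearGroup.coe_mul]
    fin_cases i <;> fin_cases j <;>
      simp [W, Wm, Matrix.mul_apply, Matrix.vecMul, dotProduct, Fin.sum_univ_four, Fin.rev, M]
  simp only [e13] at hc3 h02 h01
  have h13 : M 1 3 = 0 := hc3 2 (by decide)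
  have h23 : M 2 3 = 0 := hc3 1 (by decide)
  have h03 : M 0 3 = 0 := hc3 3 (by decide)
  have h01' : M 0 1 = 0 := h01
  have h02' : M 0 2 = 0 := h02
  have h10 := hc0 1 (by decide)
  have h20 := hc0 2 (by decide)
  have h30 := hc0 3 (by decide)
  have hdet : M 0 0 * (M 1 1 * M 2 2 - M 1 2 * M 2 1) * M 3 3 = 1 := by
    have hd : M.det = 1 := g.2
    rw [Matrix.det_succ_row_zero] at hd
    simp [Fin.sum_univ_succ, Matrix.det_fin_three, Fin.succAbove] at hd
    simp only [show M 0 (Fin.succ 0) = 0 from h01', show M 0 (Fin.succ 1) = 0 from h02',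
      h03, h10, h20, h30, h13, h23, h31, h32] at hd
    rw [← hd]
    simp
    ring
  have hd0 : M 0 0 ≠ 0 := fun h => by rw [h] at hdet; simp at hdet
  have hd3 : M 3 3 ≠ 0 := fun h => by rw [h] at hdet; simp at hdet
  set d := M 3 3 with hdM
  set al := M 2 2 / d with hal
  set be := M 2 1 / d with hbe
  set ga := M 1 2 / d with hga
  set de := M 1 1 / d with hde
  set la := M 0 0 / d with hla
  have key : ∀ x y : F, fO m (al * x + be * y) (ga * x + de * y) = la * fO m x y := by
    intro x y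
    rcases (ovoid_iff _).1 (smul_mem_ovoid hg ((ovoid_iff _).2 (Or.inr ⟨x, y, rfl⟩))) with h1 | ⟨x', y', h1⟩
    · exact absurd ((MulAction.injective g) (h1.trans hi.symm)) (pt_ne_inf x y)
    · rw [pt, Projectivization.smul_mk] at h1
      obtain ⟨a, ha⟩ := (Projectivization.mk_eq_mk_iff' F _ _ _ _).1 h1
      rw [smul_vec, ← hM] at ha
      have e3 := congrFun ha 3
      have e2 := congrFun ha 2
      have e1 := congrFun ha 1
      have e0 := congrFun ha 0
      simp [ptV, Matrix.mulVec, dotProduct, Fin.sum_univ_four, h30, h31, h32, h20, h23, h10, h13,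
        h01', h02', h03] at e0 e1 e2 e3
      rw [e3, ← hdM] at e0 e1 e2
      have hx : x' = al * x + be * y := by
        rw [hal, hbe]; field_simp; linear_combination e2
      have hy : y' = ga * x + de * y := by
        rw [hga, hde]; field_simp; linear_combination e1
      rw [← hx, ← hy, hla]
      field_simp
      linear_combination e0
  have hla0 : la ≠ 0 := div_ne_zero hd0 hd3
  obtain ⟨h1, h2, h3⟩ := three_terms hm hF (a := al * ga) (b := th m ga) (c := th m al * al ^ 2 - la)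
    (fun x => by
      have h := key x 0
      simp only [fO, mul_zero, add_zero, th_zero hS, th_mul hS, zero_add] at h
      have : x ^ 2 ^ (m + 1) = th m x := rfl
      rw [this]
      linear_combination h)
  have hga0 : ga = 0 := th_eq_zero hS h2
  have hal0 : al ≠ 0 := fun h => by
    rw [h, th_zero hS, zero_mul, zero_sub, neg_eq_zero] at h3; exact hla0 h3
  obtain ⟨h4, h5, h6⟩ := three_terms hm hF (a := be * de) (b := th m de - la) (c := th m be * be ^ 2)
    (fun y => by
      have h := key 0 y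
      simp only [fO, mul_zero, zero_add, th_zero hS, th_mul hS, zero_mul, add_zero] at h
      have : y ^ 2 ^ (m + 1) = th m y := rfl
      rw [this]
      linear_combination h)
  have hbe0 : be = 0 := by
    rcases mul_eq_zero.1 h6 with h | h
    · exact th_eq_zero hS h
    · simpa using h
  rw [sub_eq_zero] at h3 h5
  have hde' : de = th m al * al := by
    apply th_injective hS
    rw [th_mul hS, th_th hS, h5, ← h3]
    ring
  refine ⟨Units.mk0 al hal0, ?_⟩
  have hd' : d * al ^ (2 ^ m + 1) = 1 := by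
    have e1 : th m al = (al ^ 2 ^ m) ^ 2 := by rw [th, ← pow_mul, ← pow_succ]
    have e2 : M 0 0 = la * d := by rw [hla]; field_simp
    have e3 : M 1 1 = de * d := by rw [hde]; field_simp
    have e4 : M 2 2 = al * d := by rw [hal]; field_simp
    have e5 : M 1 2 = 0 := by
      have : M 1 2 / d = 0 := hga0
      simpa [hd3] using this
    rw [e2, e3, e4, e5, ← h3, hde', e1] at hdet
    apply sq_injective hS
    apply sq_injective hS
    rw [one_pow, one_pow]
    linear_combination hdet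
  apply Subtype.ext
  ext i j
  have hk : ∀ n : ℕ, ((Units.mk0 al hal0 ^ n : Fˣ) : F) = al ^ n := fun n => by
    rw [Units.val_pow_eq_pow_val, Units.val_mk0]
  have hp : al ^ (2 ^ m) ≠ 0 := pow_ne_zero _ hal0
  have h12' : M 1 2 = 0 := by
    have : M 1 2 / d = 0 := hga0
    simpa [hd3] using this
  have h21' : M 2 1 = 0 := by
    have : M 2 1 / d = 0 := hbe0
    simpa [hd3] using this
  have e1 : th m al = (al ^ 2 ^ m) ^ 2 := by rw [th, ← pow_mul, ← pow_succ]
  have hdd : d = (al ^ (2 ^ m + 1))⁻¹ := eq_inv_of_mul_eq_one_left hd'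
  have f0 : M 0 0 = al ^ (2 ^ m + 1) := by
    have : M 0 0 = la * d := by rw [hla]; field_simp
    rw [this, ← h3, e1, hdd, pow_succ al]
    field_simp
    ring
  have f1 : M 1 1 = al ^ 2 ^ m := by
    have : M 1 1 = de * d := by rw [hde]; field_simp
    rw [this, hde', e1, hdd, pow_succ al]
    field_simp
  have f2 : M 2 2 = (al ^ 2 ^ m)⁻¹ := by
    have : M 2 2 = al * d := by rw [hal]; field_simp
    rw [this, hdd, pow_succ al]
    field_simp
  fin_cases i <;> fin_cases j <;>
    simp [H, Suz.hd, Matrix.diagonal, hk, Units.val_inv_eq_inv_val, f0, f1, f2, h10, h20, h30, h13, h23, h03,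
      h01', h02', h31, h32, h12', h21', ← hM] <;>
    exact hdd

omit hm in
theorem H_fix_pt {k : Fˣ} {x y : F} (h : H m k • pt m x y = pt m x y) (hne : ¬ (x = 0 ∧ y = 0)) :
    k = 1 := by
  have hS := isSuzField hF
  rw [H_pt hS] at h
  obtain ⟨h1, h2⟩ := pt_inj h
  by_cases hx : x = 0
  · have hy : y ≠ 0 := fun hy => hne ⟨hx, hy⟩
    have h3 : th m (k : F) * k = 1 := mul_right_cancel₀ hy (h2.trans (one_mul y).symm)
    have h4 : th m (th m (k : F) * k) = 1 := by rw [h3, th_one hS]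
    rw [th_mul hS, th_th hS] at h4
    apply Units.ext
    rw [Units.val_one]
    calc (k : F) = (k : F) * (th m (k : F) * k) := by rw [h3, mul_one]
      _ = _ := by rw [← h4]; ring
  · apply Units.ext
    rw [Units.val_one]
    exact mul_right_cancel₀ hx (h1.trans (one_mul x).symm)

omit hm in
theorem exists_map_pair {p q : Projectivization F (Fin 4 → F)} (hp : p ∈ suzukiOvoid F m)
    (hq : q ∈ suzukiOvoid F m) (hpq : p ≠ q) :
    ∃ g ∈ Cfsg.Sz F m, g • suzukiPointInfinity F = p ∧ g • suzukiPointZero F = q := by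
  have hS := isSuzField hF
  have h1 : ∃ g ∈ Cfsg.Sz F m, g • suzukiPointInfinity F = p := by
    rcases (ovoid_iff p).1 hp with rfl | ⟨a, b, rfl⟩
    · exact ⟨1, one_mem _, one_smul _ _⟩
    · exact ⟨T m a b * W, mul_mem (T_mem hS a b) (W_mem hS),
        by rw [mul_smul, W_inf, T_zero_pt hS]⟩
  obtain ⟨g, hg, hgp⟩ := h1
  have hq' : g⁻¹ • q ∈ suzukiOvoid F m := smul_mem_ovoid (inv_mem hg) hq
  rcases (ovoid_iff _).1 hq' with h2 | ⟨a, b, h2⟩
  · refine absurd ?_ hpq
    rw [← hgp, ← h2, smul_inv_smul]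
  · exact ⟨g * T m a b, mul_mem hg (T_mem hS a b), by rw [mul_smul, T_inf, hgp],
      by rw [mul_smul, T_zero_pt hS, ← h2, smul_inv_smul]⟩

theorem eq_one_of_three {g : SL(4, F)} (hg : g ∈ Cfsg.Sz F m) {p q r : Projectivization F (Fin 4 → F)}
    (hp : p ∈ suzukiOvoid F m) (hq : q ∈ suzukiOvoid F m) (hr : r ∈ suzukiOvoid F m)
    (hpq : p ≠ q) (hpr : p ≠ r) (hqr : q ≠ r) (h1 : g • p = p) (h2 : g • q = q) (h3 : g • r = r) :
    g = 1 := by
  have hS := isSuzField hF
  obtain ⟨c, hc, rfl, rfl⟩ := exists_map_pair hF hp hq hpq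
  obtain ⟨k, hk⟩ := eq_H_of_fix hm hF (g := c⁻¹ * g * c) (mul_mem (mul_mem (inv_mem hc) hg) hc)
    (by rw [mul_smul, mul_smul, h1, inv_smul_smul]) (by rw [mul_smul, mul_smul, h2, inv_smul_smul])
  have hr' : (c⁻¹ * g * c) • (c⁻¹ • r) = c⁻¹ • r := by
    rw [mul_smul, mul_smul, smul_inv_smul, h3]
  rcases (ovoid_iff _).1 (smul_mem_ovoid (inv_mem hc) hr) with h4 | ⟨x, y, h4⟩
  · exact absurd (by rw [← h4, smul_inv_smul]) hpr
  · rw [h4, hk] at hr'
    have hk1 : k = 1 := H_fix_pt hF hr' (by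
      rintro ⟨rfl, rfl⟩
      rw [pt_zero_zero] at h4
      exact hqr (by rw [← h4, smul_inv_smul]))
    have : c⁻¹ * g * c = 1 := by
      rw [hk, hk1]
      apply Subtype.ext
      ext i j
      fin_cases i <;> fin_cases j <;> simp [H, hd, Matrix.diagonal]
    rw [mul_assoc, inv_mul_eq_one] at this
    exact mul_eq_right.1 this.symm

omit hm in
theorem stab_inf_decomp_aux {g : SL(4, F)} (hg : g ∈ Cfsg.Sz F m)
    (hi : g • suzukiPointInfinity F = suzukiPointInfinity F) :
    ∃ a b : F, ((T m a b)⁻¹ * g) • suzukiPointZero F = suzukiPointZero F := by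
  have hS := isSuzField hF
  have hz : suzukiPointZero F ∈ suzukiOvoid F m :=
    (ovoid_iff _).2 (Or.inr ⟨0, 0, pt_zero_zero.symm⟩)
  rcases (ovoid_iff _).1 (smul_mem_ovoid hg hz) with h | ⟨a, b, h⟩
  · have := (MulAction.injective g) (h.trans hi.symm)
    exact absurd (pt_zero_zero.trans this) (pt_ne_inf (m := m) 0 0)
  · exact ⟨a, b, by rw [mul_smul, h, ← T_zero_pt hS, inv_smul_smul]⟩

theorem stab_inf_decomp {g : SL(4, F)} (hg : g ∈ Cfsg.Sz F m)
    (hi : g • suzukiPointInfinity F = suzukiPointInfinity F) :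
    ∃ (a b : F) (k : Fˣ), g = T m a b * H m k := by
  have hS := isSuzField hF
  obtain ⟨a, b, h⟩ := stab_inf_decomp_aux hF hg hi
  obtain ⟨k, hk⟩ := eq_H_of_fix hm hF (g := (T m a b)⁻¹ * g) (mul_mem (inv_mem (T_mem hS a b)) hg)
    (by rw [mul_smul, hi, inv_smul_eq_iff, T_inf]) h
  exact ⟨a, b, k, eq_mul_of_inv_mul_eq hk⟩

omit hm in
theorem TH_inj {a b a' b' : F} {k k' : Fˣ} (h : T m a b * H m k = T m a' b' * H m k') :
    a = a' ∧ b = b' ∧ k = k' := by
  have hS := isSuzField hF
  have h1 := congrArg (· • suzukiPointZero F) h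
  simp only [mul_smul, H_zero_pt hS, T_zero_pt hS] at h1
  obtain ⟨rfl, rfl⟩ := pt_inj h1
  refine ⟨rfl, rfl, ?_⟩
  have h2 := mul_left_cancel h
  have e0 := congrArg (fun g : SL(4, F) => (g : Matrix (Fin 4) (Fin 4) F) 0 0) h2
  have e1 := congrArg (fun g : SL(4, F) => (g : Matrix (Fin 4) (Fin 4) F) 1 1) h2
  simp only [H, Matrix.diagonal_apply_eq, hd, Matrix.cons_val_zero, Matrix.cons_val_one] at e0 e1
  rw [Units.val_inj] at e0 e1
  rw [pow_succ, pow_succ, e1] at e0
  exact mul_left_cancel e0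

omit hm in
theorem card_ovoid : Nat.card (suzukiOvoid F m) = Fintype.card F ^ 2 + 1 := by
  classical
  let φ : Option (F × F) → suzukiOvoid F m := fun o => match o with
    | none => ⟨_, (ovoid_iff _).2 (Or.inl rfl)⟩
    | some p => ⟨pt m p.1 p.2, (ovoid_iff _).2 (Or.inr ⟨_, _, rfl⟩)⟩
  rw [← Nat.card_eq_of_bijective φ ⟨?_, ?_⟩, Nat.card_eq_fintype_card, Fintype.card_option,
    Fintype.card_prod, sq]
  · rintro (_ | ⟨x, y⟩) (_ | ⟨x', y'⟩) h <;> simp only [φ, Subtype.mk.injEq] at h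
    · rfl
    · exact absurd h.symm (pt_ne_inf x' y')
    · exact absurd h (pt_ne_inf x y)
    · obtain ⟨rfl, rfl⟩ := pt_inj h; rfl
  · rintro ⟨p, hp⟩
    rcases (ovoid_iff p).1 hp with rfl | ⟨x, y, rfl⟩
    exacts [⟨none, rfl⟩, ⟨some (x, y), rfl⟩]

end CfsgLib.Lie.Suz
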